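import Mathlib

/-!
# Centralizer facts used in the coprime rows of the sporadic groups (helper537)

* `SC p T` : elements of order `p` have centralizer of order `p`;
* `CB r s j T` : `s ^ (j + 1)` does not divide the order of the centralizer of an element of order `r`.
-/

set_option autoImplicit false

namespace Cfsg.Agent.H537.Cop

open Subgroup

/-- elements of order `p` have centralizer of order `p` -/
def SC (p : ℕ) (T : Type*) [Group T] : Prop :=
  ∀ x : T, orderOf x = p → Nat.card (centralizer ({x} : Set T)) = p

/-- the `s`-part of the order of the centralizer of an element of order `r` is at most `s ^ j` -/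
def CB (r s j : ℕ) (T : Type*) [Group T] : Prop :=
  ∀ x : T, orderOf x = r → ¬ s ^ (j + 1) ∣ Nat.card (centralizer ({x} : Set T))

theorem card_centralizer_equiv {G H : Type*} [Group G] [Group H] (e : G ≃* H) (x : G) :
    Nat.card (centralizer ({x} : Set G)) = Nat.card (centralizer ({e x} : Set H)) := by
  refine Nat.card_congr (e.toEquiv.subtypeEquiv fun y => ?_)
  rw [mem_centralizer_singleton_iff, mem_centralizer_singleton_iff]
  constructor
  · intro h
    show e y * e x = e x * e y
    rw [← map_mul, h, map_mul]
  · intro h
    apply e.injective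
    rw [map_mul, map_mul]
    exact h

theorem SC.congr {p : ℕ} {G H : Type*} [Group G] [Group H] (e : G ≃* H) (h : SC p H) : SC p G := by
  intro x hx
  rw [card_centralizer_equiv e]
  exact h (e x) (by rw [MulEquiv.orderOf_eq, hx])

theorem CB.congr {r s j : ℕ} {G H : Type*} [Group G] [Group H] (e : G ≃* H) (h : CB r s j H) : CB r s j G := by
  intro x hx
  rw [card_centralizer_equiv e]
  exact h (e x) (by rw [MulEquiv.orderOf_eq, hx])

theorem CB.mono {r s i j : ℕ} {T : Type*} [Group T] (h : CB r s i T) (hij : i ≤ j) : CB r s j T :=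
  fun x hx hd => h x hx ((pow_dvd_pow s (by omega)).trans hd)

/-- non-adjacency from a bound -/
theorem CB.ne {r s : ℕ} {T : Type*} [Group T] [Finite T] (h : CB r s 0 T) (x y : T) (hx : orderOf x = r)
    (hy : orderOf y = s) : x * y ≠ y * x := by
  intro hc
  refine h x hx ?_
  have h1 := orderOf_dvd_natCard (⟨y, mem_centralizer_singleton_iff.2 hc.symm⟩ : centralizer ({x} : Set T))
  rw [Subgroup.orderOf_mk, hy] at h1
  rwa [zero_add, pow_one]

/-- a bound from non-adjacency -/
theorem CB.of_ne {r s : ℕ} (hs : s.Prime) {T : Type*} [Group T] [Finite T]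
    (h : ∀ x y : T, orderOf x = r → orderOf y = s → x * y ≠ y * x) : CB r s 0 T := by
  intro x hx hd
  rw [zero_add, pow_one] at hd
  have : Fact s.Prime := ⟨hs⟩
  obtain ⟨y, hy⟩ := exists_prime_orderOf_dvd_card' s hd
  exact h x y hx (by rw [← hy, orderOf_coe]) (mem_centralizer_singleton_iff.1 y.2).symm

end Cfsg.Agent.H537.Cop
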