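import Cfsg.Agent.H537.CopDefs
import Cfsg.Agent.H995.CopSmall
import Cfsg.Agent.H377.SporFi24
import Cfsg.Agent.H723.Spor.JFour
import Cfsg.Agent.OddHalf.Table.OutRu
import Cfsg.Agent.H270.Crit.Mathieu

/-!
# Self-centralizing elements of prime order in sporadic groups (helper537)
-/

set_option autoImplicit false

namespace Cfsg.Agent.H537.Cop

open Subgroup Cfsg Cfsg.Agent.H995.CopTwo Cfsg.Agent.SporadicA.GolayBase Cfsg.Agent.SporadicA.GolayPerm
open scoped Pointwise

variable {G : Type*} [Group G]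

/-- the centralizer of a `p`-element of order `p`, with no commuting elements of another prime order -/
theorem SC.of_nonadj [Finite G] {p : ℕ} (hp : p.Prime) (hpp : ¬ p ^ 2 ∣ Nat.card G)
    (h : ∀ x y : G, orderOf x = p → (orderOf y).Prime → orderOf y ≠ p → x * y ≠ y * x) : SC p G := by
  intro x hx
  have h1 : ∀ q : ℕ, q.Prime → q ∣ Nat.card (centralizer ({x} : Set G)) → q = p := by
    intro q hq hd
    have : Fact q.Prime := ⟨hq⟩
    obtain ⟨y, hy⟩ := exists_prime_orderOf_dvd_card' q hd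
    by_contra hne
    refine h x (y : G) hx (by rw [orderOf_coe, hy]; exact hq) (by rw [orderOf_coe, hy]; exact hne) ?_
    exact (mem_centralizer_singleton_iff.1 y.2).symm
  have h2 : Nat.card (centralizer ({x} : Set G)) = p ^ (Nat.card (centralizer ({x} : Set G))).factorization p := by
    refine Nat.eq_of_factorization_eq Nat.card_pos.ne' (pow_ne_zero _ hp.ne_zero) fun q => ?_
    by_cases hq : q.Prime
    · by_cases hqp : q = p
      · rw [hqp, hp.factorization_pow]; simp
      · rw [hp.factorization_pow, Finsupp.single_apply, if_neg (Ne.symm hqp)]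
        exact Nat.factorization_eq_zero_of_not_dvd fun hd => hqp (h1 q hq hd)
    · rw [Nat.factorization_eq_zero_of_not_prime _ hq, Nat.factorization_eq_zero_of_not_prime _ hq]
  have h3 : p ∣ Nat.card (centralizer ({x} : Set G)) := by
    have := orderOf_dvd_natCard (⟨x, mem_centralizer_singleton_iff.2 rfl⟩ : centralizer ({x} : Set G))
    rwa [Subgroup.orderOf_mk, hx] at this
  obtain ⟨k, hk⟩ : ∃ k, (Nat.card (centralizer ({x} : Set G))).factorization p = k := ⟨_, rfl⟩
  rw [hk] at h2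
  rw [h2] at h3 ⊢
  rcases k with _ | _ | k
  · rw [pow_zero] at h3
    exact absurd (Nat.dvd_one.1 h3) hp.one_lt.ne'
  · rw [zero_add, pow_one]
  · exact absurd ((pow_dvd_pow p (show 2 ≤ k + 1 + 1 by omega)).trans
      (h2 ▸ card_subgroup_dvd_card (centralizer ({x} : Set G)))) hpp

/-- one self-centralizing Sylow subgroup -/
theorem SC.of_one [Finite G] {p : ℕ} (hp : p.Prime) (hpp : ¬ p ^ 2 ∣ Nat.card G) {x : G} (hx : orderOf x = p)
    (h : Nat.card (centralizer ({x} : Set G)) = p) : SC p G := by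
  have : Fact p.Prime := ⟨hp⟩
  have hsyl : ∀ y : G, orderOf y = p → ∃ S : Sylow p G, (S : Subgroup G) = zpowers y := by
    intro y hy
    have hP : IsPGroup p (zpowers y) := IsPGroup.of_card (n := 1) (by rw [Nat.card_zpowers, hy, pow_one])
    obtain ⟨S, hS⟩ := hP.exists_le_sylow
    refine ⟨S, (eq_of_le_of_card_ge hS ?_).symm⟩
    obtain ⟨k, hk⟩ := IsPGroup.iff_card.1 S.2
    have hk2 : k < 2 := by
      by_contra hc
      push Not at hc
      exact hpp ((pow_dvd_pow p hc).trans (hk ▸ card_subgroup_dvd_card (S : Subgroup G)))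
    rw [hk, Nat.card_zpowers, hy]
    calc p ^ k ≤ p ^ 1 := Nat.pow_le_pow_right hp.pos (by omega)
      _ = p := pow_one p
  intro y hy
  obtain ⟨P, hP⟩ := hsyl x hx
  obtain ⟨Q, hQ⟩ := hsyl y hy
  obtain ⟨g, hg⟩ := MulAction.exists_smul_eq G P Q
  have h1 : y ∈ (g • P : Sylow p G) := by
    rw [hg]
    show y ∈ (Q : Subgroup G)
    rw [hQ]
    exact mem_zpowers y
  have h2 : g⁻¹ * y * g ∈ zpowers x := by
    rw [← hP]
    have h3 : y ∈ MulAut.conj g • (P : Subgroup G) := h1
    rw [Subgroup.mem_pointwise_smul_iff_inv_smul_mem] at h3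
    have h4 : (MulAut.conj g)⁻¹ • y = g⁻¹ * y * g := by
      rw [← map_inv]
      show g⁻¹ * y * g⁻¹⁻¹ = g⁻¹ * y * g
      rw [inv_inv]
    rwa [h4] at h3
  -- `y` is conjugate into the powers of `x`
  have ho : orderOf (g⁻¹ * y * g) = p := by
    have := (MulAut.conj g⁻¹).orderOf_eq y
    have h4 : (MulAut.conj g⁻¹) y = g⁻¹ * y * g := by
      show g⁻¹ * y * g⁻¹⁻¹ = g⁻¹ * y * g
      rw [inv_inv]
    rw [← h4, this, hy]
  have e1 : Nat.card (centralizer ({g⁻¹ * y * g} : Set G)) = Nat.card (centralizer ({y} : Set G)) := by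
    have h3 := card_centralizer_equiv (MulAut.conj g⁻¹) y
    have h4 : (MulAut.conj g⁻¹) y = g⁻¹ * y * g := by
      show g⁻¹ * y * g⁻¹⁻¹ = g⁻¹ * y * g
      rw [inv_inv]
    rw [h4] at h3
    exact h3.symm
  rw [← e1]
  have e2 : zpowers (g⁻¹ * y * g) = zpowers x := by
    refine eq_of_le_of_card_ge (zpowers_le.2 h2) ?_
    rw [Nat.card_zpowers, Nat.card_zpowers, hx, ho]
  have e3 : centralizer ({g⁻¹ * y * g} : Set G) = centralizer ({x} : Set G) := by
    have key : ∀ z : G, centralizer ({z} : Set G) = centralizer (zpowers z : Set G) := by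
      intro z
      ext c
      rw [mem_centralizer_singleton_iff, mem_centralizer_iff]
      constructor
      · rintro hc w hw
        obtain ⟨n, rfl⟩ := mem_zpowers_iff.1 hw
        have hc' : Commute z c := hc.symm
        exact (hc'.zpow_left n).eq
      · intro hc
        exact (hc z (mem_zpowers z)).symm
    rw [key, key, e2]
  rw [e3, h]

/-- from a description of the centralizer -/
theorem card_cent_of_pow [Finite G] {x : G} (h : ∀ c : G, c * x = x * c → ∃ i : ℕ, c = x ^ i) :
    Nat.card (centralizer ({x} : Set G)) = orderOf x := by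
  have h1 : centralizer ({x} : Set G) = zpowers x := by
    apply le_antisymm
    · intro c hc
      obtain ⟨i, rfl⟩ := h c (mem_centralizer_singleton_iff.1 hc)
      exact pow_mem (mem_zpowers x) i
    · rw [zpowers_le, mem_centralizer_singleton_iff]
  rw [h1, Nat.card_zpowers]

/-! ### Mathieu groups -/

theorem sc_of_hom {H : Type*} [Group H] [Finite H] (φ : G →* H) (hφ : Function.Injective φ) {r : ℕ}
    (hr : r.Prime) (h : SC r H) : SC r G := fun x hx => cent_of_hom φ hφ hr h x hx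

theorem sc_m24_11 : SC 11 M24 := cent_m24

theorem sc_m24_23 : SC 23 M24 := by
  intro x hx
  have h1 := Cfsg.Agent.H270.Crit.card_cent_m24 hx
  have h2 : 23 ∣ Nat.card (centralizer ({x} : Set M24)) := by
    have := orderOf_dvd_natCard (⟨x, mem_centralizer_singleton_iff.2 rfl⟩ : centralizer ({x} : Set M24))
    rwa [Subgroup.orderOf_mk, hx] at this
  exact le_antisymm h1 (Nat.le_of_dvd Nat.card_pos h2)

theorem m24_11 (h : Spor.IsoM24 G) : SC 11 G := by
  obtain ⟨e⟩ := h
  exact sc_m24_11.congr e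

theorem m24_23 (h : Spor.IsoM24 G) : SC 23 G := by
  obtain ⟨e⟩ := h
  exact sc_m24_23.congr e

theorem m23_11 (h : Spor.IsoM23 G) : SC 11 G := by
  obtain ⟨e⟩ := h
  exact (sc_of_hom H729.PairMathieu.inc23 H729.PairMathieu.inc23_injective (by norm_num) sc_m24_11).congr e

theorem m23_23 (h : Spor.IsoM23 G) : SC 23 G := by
  obtain ⟨e⟩ := h
  exact (sc_of_hom H729.PairMathieu.inc23 H729.PairMathieu.inc23_injective (by norm_num) sc_m24_23).congr e

theorem m22_11 (h : Spor.IsoM22 G) : SC 11 G := by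
  obtain ⟨e⟩ := h
  exact (sc_of_hom H729.M22Deg.inc H729.M22Deg.inc_injective (by norm_num) sc_m24_11).congr e

theorem m12_11 (h : Spor.IsoM12 G) : SC 11 G := by
  obtain ⟨e⟩ := h
  exact (sc_of_hom H729.PairMathieu.inc12 H729.PairMathieu.inc12_injective (by norm_num) sc_m24_11).congr e

theorem m11_11 (h : Spor.IsoM11 G) : SC 11 G := by
  have hG := Cit.Eleven.isM11 h
  have : Finite G := Nat.finite_of_card_ne_zero (by rw [hG.2]; norm_num)
  exact fun x hx => SporadicA.M11Sylow.card_centralizer_eleven hG hx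

/-! ### Janko groups -/

theorem j1_19 (h : Spor.IsoJ1 G) : SC 19 G := by
  obtain ⟨e⟩ := h
  refine SC.congr e ?_
  obtain ⟨hs, hc⟩ := Cfsg.Agent.SporadicB.J1.Main.isJ1
  have : Finite Spor.J1 := Nat.finite_of_card_ne_zero (by rw [hc]; norm_num)
  exact fun x hx => OddCyclic.EmpE.Kill.card_cent H413.JOneLocal.isLocal hc hx

theorem j3_19 (h : Spor.IsoJ3 G) : SC 19 G := by
  obtain ⟨hs, hc, -⟩ := H898.J3Cent.base h
  have : Finite G := Nat.finite_of_card_ne_zero (by rw [hc]; norm_num)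
  exact fun x hx => H898.J3Cent.card_nineteen h hx

theorem j3_17 (h : Spor.IsoJ3 G) : SC 17 G := by
  obtain ⟨hs, hc, -⟩ := H898.J3Cent.base h
  have : Finite G := Nat.finite_of_card_ne_zero (by rw [hc]; norm_num)
  exact fun x hx => (H898.J3Cent.seventeen h hx).1

theorem j4_43 (h : Spor.IsoJ4 G) : SC 43 G := by
  obtain ⟨e⟩ := h
  exact SC.congr e fun x hx => H723.Spor.JFour.cent_big (by norm_num) hx

/-! ### Fischer groups and Ru -/

theorem fi24_29' (h : Spor.IsoFi24' G) : SC 29 G := by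
  have hcard := (BpSpor.Row.dat_fi24 h).card
  have hfin : Finite G := Nat.finite_of_card_ne_zero (by rw [hcard]; norm_num)
  obtain ⟨e⟩ := h
  have ho : ∀ w : G, orderOf ((e w : Spor.Fi24') : Spor.Fi24) = orderOf w := fun w => by
    rw [Subgroup.orderOf_coe, MulEquiv.orderOf_eq]
  refine SC.of_nonadj (by norm_num) (by rw [hcard]; norm_num) fun x y hx hy hne hxy => ?_
  refine H377.SporRow.fi24_29 (x := ((e x : Spor.Fi24') : Spor.Fi24)) (y := ((e y : Spor.Fi24') : Spor.Fi24)) ?_ ?_ ?_ ?_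
  · rw [ho, hx]
  · rw [ho]; exact hy
  · rw [ho]; exact hne
  · rw [← Subgroup.coe_mul, ← Subgroup.coe_mul, ← map_mul, ← map_mul, hxy]

theorem ru_29 (h : Spor.IsoRu G) : SC 29 G := by
  obtain ⟨e⟩ := h
  refine SC.congr (e.trans RuLat.Main.equiv) ?_
  refine SC.of_one (x := OddHalf.Table.OutRu.x) (by norm_num) (by rw [SporadicB.RuOrder.card_H]; norm_num)
    OddHalf.Table.OutRu.orderOf_x ?_
  rw [card_cent_of_pow OddHalf.Table.OutRu.cent_x', OddHalf.Table.OutRu.orderOf_x]

theorem fi23_23 (h : Spor.IsoFi23 G) : SC 23 G := by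
  obtain ⟨e⟩ := h
  intro x hx
  obtain ⟨-, h2⟩ := H839.Fi23.SC.map_all e.symm H839.Fi23.twentythree_main (zpowers x) (by rw [Nat.card_zpowers, hx])
  rw [H729.PairBase.centralizer_zpowers_eq] at h2
  rw [h2, Nat.card_zpowers, hx]

theorem fi23_17 (h : Spor.IsoFi23 G) : SC 17 G := by
  obtain ⟨e⟩ := h
  intro x hx
  obtain ⟨-, h2⟩ := H839.Fi23.SC.map_all e.symm H839.Fi23.seventeen_main (zpowers x) (by rw [Nat.card_zpowers, hx])
  rw [H729.PairBase.centralizer_zpowers_eq] at h2
  rw [h2, Nat.card_zpowers, hx]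

theorem fi22_13 (h : Spor.IsoFi22 G) : SC 13 G := by
  obtain ⟨e⟩ := h
  intro x hx
  obtain ⟨-, h2⟩ := (H836.Main.thirteen_concl e).2 (zpowers x) (by rw [Nat.card_zpowers, hx])
  rw [H729.PairBase.centralizer_zpowers_eq] at h2
  rw [h2, Nat.card_zpowers, hx]

end Cfsg.Agent.H537.Cop
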