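import Cfsg.Agent.H537.CopNum
import Cfsg.Agent.H537.CopSC
import Cfsg.Agent.H981.SCON

/-!
# The rows of the coprime orbit theorem for sporadic groups with a good self-centralizing element (helper537)
-/

set_option autoImplicit false
set_option maxRecDepth 100000

namespace Cfsg.Agent.H537.Cop

open Cfsg Cfsg.Agent.H505.Cop Cfsg.Agent.H393.Sp

universe u

/-- the classification -/
def Known : Prop := ∀ (K : Type u) [Group K] [Finite K] [IsSimpleGroup K], IsKnownSimple' K

theorem on_31 {G : Type*} [Group G] (h : Spor.IsoON G) : SC 31 G := by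
  obtain ⟨e⟩ := h
  exact SC.congr e Cfsg.Agent.H981.SCON.sc_on

theorem chk_m11 : chk1 11 7920 [(2, 4), (3, 2), (5, 1), (11, 1)] = true := by decide +kernel

/-- **M₁₁** -/
theorem row_m11 (hk : Known.{u}) {S : Type u} [Group S] (h : Spor.IsoM11 S) : CopRow S := by
  have hc : Nat.card S = 7920 := NotCT.Orders.m11 h
  have : Finite S := Nat.finite_of_card_ne_zero (by rw [hc]; norm_num)
  exact copRow_of_chk1 hk (p := 11) (by norm_num) hc valid_m11 (by decide) (by norm_num) (by norm_num) (m11_11 h) chk_m11

theorem chk_m12 : chk1 11 95040 [(2, 6), (3, 3), (5, 1), (11, 1)] = true := by decide +kernel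

/-- **M₁₂** -/
theorem row_m12 (hk : Known.{u}) {S : Type u} [Group S] (h : Spor.IsoM12 S) : CopRow S := by
  have hc : Nat.card S = 95040 := NotCT.Orders.m12 h
  have : Finite S := Nat.finite_of_card_ne_zero (by rw [hc]; norm_num)
  exact copRow_of_chk1 hk (p := 11) (by norm_num) hc valid_m12 (by decide) (by norm_num) (by norm_num) (m12_11 h) chk_m12

theorem chk_m23 : chk1 23 10200960 [(2, 7), (3, 2), (5, 1), (7, 1), (11, 1), (23, 1)] = true := by decide +kernel

/-- **M₂₃** -/
theorem row_m23 (hk : Known.{u}) {S : Type u} [Group S] (h : Spor.IsoM23 S) : CopRow S := by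
  have hc : Nat.card S = 10200960 := NotCT.Orders.m23 h
  have : Finite S := Nat.finite_of_card_ne_zero (by rw [hc]; norm_num)
  exact copRow_of_chk1 hk (p := 23) (by norm_num) hc valid_m23 (by decide) (by norm_num) (by norm_num) (m23_23 h) chk_m23

theorem chk_j1 : chk1 19 175560 [(2, 3), (3, 1), (5, 1), (7, 1), (11, 1), (19, 1)] = true := by decide +kernel

/-- **J₁** -/
theorem row_j1 (hk : Known.{u}) {S : Type u} [Group S] (h : Spor.IsoJ1 S) : CopRow S := by
  have hc : Nat.card S = 175560 := NotCT.Orders.j1 h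
  have : Finite S := Nat.finite_of_card_ne_zero (by rw [hc]; norm_num)
  exact copRow_of_chk1 hk (p := 19) (by norm_num) hc valid_j1 (by decide) (by norm_num) (by norm_num) (j1_19 h) chk_j1

theorem chk_j4 : chk1 43 86775571046077562880 [(2, 21), (3, 3), (5, 1), (7, 1), (11, 3), (23, 1), (29, 1), (31, 1), (37, 1), (43, 1)] = true := by decide +kernel

/-- **J₄** -/
theorem row_j4 (hk : Known.{u}) {S : Type u} [Group S] (h : Spor.IsoJ4 S) : CopRow S := by
  have hc : Nat.card S = 86775571046077562880 := NotCT.Orders.j4 h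
  have : Finite S := Nat.finite_of_card_ne_zero (by rw [hc]; norm_num)
  exact copRow_of_chk1 hk (p := 43) (by norm_num) hc valid_j4 (by decide) (by norm_num) (by norm_num) (j4_43 h) chk_j4

theorem chk_ru : chk1 29 145926144000 [(2, 14), (3, 3), (5, 3), (7, 1), (13, 1), (29, 1)] = true := by decide +kernel

/-- **Ru** -/
theorem row_ru (hk : Known.{u}) {S : Type u} [Group S] (h : Spor.IsoRu S) : CopRow S := by
  have hc : Nat.card S = 145926144000 := NotCT.Orders.ru h
  have : Finite S := Nat.finite_of_card_ne_zero (by rw [hc]; norm_num)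
  exact copRow_of_chk1 hk (p := 29) (by norm_num) hc valid_ru (by decide) (by norm_num) (by norm_num) (ru_29 h) chk_ru

theorem chk_on : chk1 31 460815505920 [(2, 9), (3, 4), (5, 1), (7, 3), (11, 1), (19, 1), (31, 1)] = true := by decide +kernel

/-- **O'N** -/
theorem row_on (hk : Known.{u}) {S : Type u} [Group S] (h : Spor.IsoON S) : CopRow S := by
  have hc : Nat.card S = 460815505920 := NotCT.Orders.on h
  have : Finite S := Nat.finite_of_card_ne_zero (by rw [hc]; norm_num)
  exact copRow_of_chk1 hk (p := 31) (by norm_num) hc valid_on (by decide) (by norm_num) (by norm_num) (on_31 h) chk_on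

theorem chk_fi24 : chk1 29 1255205709190661721292800 [(2, 21), (3, 16), (5, 2), (7, 3), (11, 1), (13, 1), (17, 1), (23, 1), (29, 1)] = true := by decide +kernel

/-- **Fi₂₄'** -/
theorem row_fi24 (hk : Known.{u}) {S : Type u} [Group S] (h : Spor.IsoFi24' S) : CopRow S := by
  have hc : Nat.card S = 1255205709190661721292800 := NotCT.Orders.fi24 h
  have : Finite S := Nat.finite_of_card_ne_zero (by rw [hc]; norm_num)
  exact copRow_of_chk1 hk (p := 29) (by norm_num) hc valid_fi24 (by decide) (by norm_num) (by norm_num) (fi24_29' h) chk_fi24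

end Cfsg.Agent.H537.Cop
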