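import Cfsg.Agent.H505.Cop.Red

/-!
# Coprime orbits: a subgroup of index `p + 1` containing an element of order `p` (helper537)

The permutation module of a doubly transitive group of degree `p + 1` containing a `p`-cycle: an irreducible module
generated by a vector fixed by the point stabilizer has no non-zero vector fixed by a subgroup of index prime
to `p + 1`.
-/

set_option autoImplicit false

namespace Cfsg.Agent.H537.Cop

open Subgroup Cfsg.Agent.H505.Cop

section trans

variable {k V H : Type*} [Field k] [AddCommGroup V] [Module k V] [Group H] [Finite H]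

/-- the orbit map -/
noncomputable def fo (ρ : Representation k H V) (A : Subgroup H) (a : V) (c : H ⧸ A) : V := ρ c.out a

omit [Finite H] in
theorem fo_mk {ρ : Representation k H V} {A : Subgroup H} {a : V} (hA : ∀ x ∈ A, ρ x a = a) (g : H) :
    fo ρ A a (g : H ⧸ A) = ρ g a := by
  unfold fo
  have h1 : g⁻¹ * (g : H ⧸ A).out ∈ A := by
    rw [← QuotientGroup.eq, QuotientGroup.out_eq']
  have h2 : (g : H ⧸ A).out = g * (g⁻¹ * (g : H ⧸ A).out) := by group
  rw [h2, rho_mul_apply, hA _ h1]

omit [Finite H] in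
theorem fo_smul {ρ : Representation k H V} {A : Subgroup H} {a : V} (hA : ∀ x ∈ A, ρ x a = a) (g : H) (c : H ⧸ A) :
    fo ρ A a (g • c) = ρ g (fo ρ A a c) := by
  induction c using QuotientGroup.induction_on with
  | H x =>
    rw [fo_mk hA]
    have h1 : g • (x : H ⧸ A) = ((g * x : H) : H ⧸ A) := rfl
    rw [h1, fo_mk hA, rho_mul_apply]

/-- **The kill for degree `p + 1`.** -/
theorem kill_trans {ρ : Representation k H V} (hirr : Irr ρ) (hnt : Nontriv ρ) (A B : Subgroup H) {p : ℕ}
    (hp : p.Prime) (hA : A.index = p + 1) {x : H} (hxA : x ∈ A) (hx : x ^ p = 1)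
    (hfix : ∀ c : H ⧸ A, x • c = c → c = ((1 : H) : H ⧸ A)) (hcop : A.index.Coprime B.index) {a b : V}
    (ha : ∀ x ∈ A, ρ x a = a) (hb : ∀ x ∈ B, ρ x b = b) : a = 0 ∨ b = 0 := by
  classical
  by_cases ha0 : a = 0
  · exact Or.inl ha0
  right
  have hfin : Finite (H ⧸ A) := inferInstance
  let _ : Fintype (H ⧸ A) := Fintype.ofFinite _
  set c0 : H ⧸ A := ((1 : H) : H ⧸ A) with hc0
  have hxc0 : x • c0 = c0 := by
    show ((x * 1 : H) : H ⧸ A) = ((1 : H) : H ⧸ A)
    rw [mul_one, QuotientGroup.eq, mul_one]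
    exact A.inv_mem hxA
  have hcard : Fintype.card (H ⧸ A) = p + 1 := by
    rw [← Nat.card_eq_fintype_card, ← hA]
    rfl
  let f := fo ρ A a
  have hfs : ∀ (g : H) (c : H ⧸ A), f (g • c) = ρ g (f c) := fun g c => fo_smul ha g c
  have hf0 : f c0 = a := by
    show fo ρ A a ((1 : H) : H ⧸ A) = a
    rw [fo_mk ha, map_one]
    rfl
  have hsum : ∑ c : H ⧸ A, f c = 0 := sum_orbit_eq_zero hirr hnt A a ha
  -- the operator
  let θ : V →ₗ[k] V := ∑ i ∈ Finset.range p, ρ (x ^ i)
  have hθ : ∀ v, θ v = ∑ i ∈ Finset.range p, ρ (x ^ i) v := fun v => by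
    simp only [θ, LinearMap.sum_apply]
  have hxi : ∀ i : ℕ, x ^ i • c0 = c0 := by
    intro i
    induction i with
    | zero => rw [pow_zero, one_smul]
    | succ i ih => rw [pow_succ, mul_smul, hxc0, ih]
  have hθ0 : θ (f c0) = (p : k) • a := by
    rw [hθ, Finset.sum_congr rfl (fun i _ => by rw [← hfs, hxi, hf0]), Finset.sum_const, Finset.card_range,
      Nat.cast_smul_eq_nsmul]
  have hθ1 : ∀ c, c ≠ c0 → θ (f c) = -a := by
    intro c hc
    have hinj : Set.InjOn (fun i : ℕ => x ^ i • c) (Finset.range p : Set ℕ) := by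
      have key : ∀ i j : ℕ, i < j → j < p → x ^ i • c ≠ x ^ j • c := by
        intro i j hij hj h
        have h1 : x ^ (j - i) • c = c := by
          have h2 : x ^ j = x ^ i * x ^ (j - i) := by rw [← pow_add, Nat.add_sub_cancel' hij.le]
          rw [h2, mul_smul] at h
          exact (MulAction.injective (x ^ i) h).symm
        have h3 : Nat.gcd (j - i) p = 1 := by
          rw [← Nat.coprime_iff_gcd_eq_one, Nat.coprime_comm]
          refine (Nat.Prime.coprime_iff_not_dvd hp).2 fun h4 => ?_
          have := Nat.le_of_dvd (by omega) h4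
          omega
        have h4 : x ∈ MulAction.stabilizer H c := by
          have h5 := Nat.gcd_eq_gcd_ab (j - i) p
          rw [h3] at h5
          have h6 : x ^ (((j - i : ℕ) : ℤ) * (j - i).gcdA p + (p : ℤ) * (j - i).gcdB p) ∈ MulAction.stabilizer H c := by
            rw [zpow_add, zpow_mul, zpow_mul, zpow_natCast, zpow_natCast, hx, one_zpow, mul_one]
            exact zpow_mem (MulAction.mem_stabilizer_iff.2 h1) _
          rwa [← h5, Nat.cast_one, zpow_one] at h6
        exact hc (hfix c (MulAction.mem_stabilizer_iff.1 h4))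
      intro i hi j hj h
      have hi' : i < p := Finset.mem_range.1 hi
      have hj' : j < p := Finset.mem_range.1 hj
      rcases lt_trichotomy i j with h1 | h1 | h1
      · exact absurd h (key i j h1 hj')
      · exact h1
      · exact absurd h.symm (key j i h1 hi')
    have himg : (Finset.range p).image (fun i : ℕ => x ^ i • c) = Finset.univ.erase c0 := by
      refine Finset.eq_of_subset_of_card_le ?_ ?_
      · intro d hd
        obtain ⟨i, -, rfl⟩ := Finset.mem_image.1 hd
        refine Finset.mem_erase.2 ⟨fun h => hc ?_, Finset.mem_univ _⟩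
        rw [← hxi i] at h
        exact MulAction.injective (x ^ i) h
      · rw [Finset.card_image_of_injOn hinj, Finset.card_range, Finset.card_erase_of_mem (Finset.mem_univ _),
          Finset.card_univ, hcard, Nat.add_sub_cancel]
    rw [hθ, Finset.sum_congr rfl (fun i _ => (hfs (x ^ i) c).symm)]
    have h1 : ∑ i ∈ Finset.range p, f (x ^ i • c) = ∑ d ∈ Finset.univ.erase c0, f d := by
      rw [← himg, Finset.sum_image hinj]
    rw [h1]
    have h2 := Finset.sum_erase_add Finset.univ f (Finset.mem_univ c0)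
    rw [hsum, hf0] at h2
    exact eq_neg_of_add_eq_zero_left h2
  -- the value on a combination
  have hval : ∀ β : H ⧸ A → k, θ (∑ c, β c • f c) = (((p : k) + 1) * β c0 - ∑ c, β c) • a := by
    intro β
    rw [map_sum, ← Finset.add_sum_erase Finset.univ _ (Finset.mem_univ c0),
      Finset.sum_congr rfl (fun c hc => by
        rw [map_smul, hθ1 c (Finset.ne_of_mem_erase hc)]), map_smul, hθ0]
    have h1 : ∑ c ∈ Finset.univ.erase c0, β c • -a = -((∑ c, β c - β c0) • a) := by
      rw [← Finset.sum_erase_eq_sub (Finset.mem_univ c0), Finset.sum_smul, ← Finset.sum_neg_distrib]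
      exact Finset.sum_congr rfl fun c _ => smul_neg _ _
    rw [h1, smul_smul, ← neg_smul, ← add_smul]
    congr 1
    ring
  -- translates
  have htr : ∀ (g : H) (β : H ⧸ A → k), ρ g⁻¹ (∑ c, β c • f c) = ∑ c, β (g • c) • f c := by
    intro g β
    rw [map_sum]
    refine Fintype.sum_equiv (MulAction.toPerm g⁻¹) _ _ fun c => ?_
    rw [map_smul, ← hfs, MulAction.toPerm_apply, smul_inv_smul]
  -- `b` is a combination
  have hspan : Submodule.span k (Set.range f) = ⊤ := by
    rw [eq_top_iff, ← span_orbit hirr ha0, Submodule.span_le]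
    rintro _ ⟨h, rfl⟩
    apply Submodule.subset_span
    exact ⟨(h : H ⧸ A), fo_mk ha h⟩
  obtain ⟨β, hβ⟩ : ∃ β : H ⧸ A → k, ∑ c, β c • f c = b :=
    (Submodule.mem_span_range_iff_exists_fun k).1 (hspan ▸ Submodule.mem_top)
  have hconst : ∀ g ∈ B, ((p : k) + 1) * β (g • c0) = ((p : k) + 1) * β c0 := by
    intro g hg
    have h1 := htr g β
    rw [hβ, hb _ (B.inv_mem hg)] at h1
    have h2 := congrArg θ h1
    rw [hval, ← hβ, hval] at h2
    have h3 : ∑ c, β (g • c) = ∑ c, β c := Fintype.sum_equiv (MulAction.toPerm g) _ _ fun c => rfl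
    rw [h3] at h2
    have h4 := sub_eq_zero.2 h2
    rw [← sub_smul, smul_eq_zero] at h4
    rcases h4 with h4 | h4
    · linear_combination -h4
    · exact absurd h4 ha0
  have htrans : ∀ c : H ⧸ A, ∃ g ∈ B, g • c0 = c := by
    intro c
    induction c using QuotientGroup.induction_on with
    | H y =>
      obtain ⟨g, hg, z, hz, rfl⟩ := Cfsg.Agent.S0007.exists_mul_eq B A hcop.symm y
      refine ⟨g, hg, ?_⟩
      show ((g * 1 : H) : H ⧸ A) = ((g * z : H) : H ⧸ A)
      rw [QuotientGroup.eq, mul_one, inv_mul_cancel_left]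
      exact hz
  by_cases hpk : (p : k) + 1 = 0
  · -- the orbit map is constant
    exfalso
    let W : Submodule k V :=
      { carrier := {v | ∀ g : H, θ (ρ g v) = 0}
        add_mem' := fun {u v} hu hv g => by rw [map_add, map_add, hu g, hv g, add_zero]
        zero_mem' := fun g => by rw [map_zero, map_zero]
        smul_mem' := fun c v hv g => by rw [map_smul, map_smul, hv g, smul_zero] }
    have hpk' : (p : k) = -1 := eq_neg_of_add_eq_zero_left hpk
    have hall : ∀ c, θ (f c) = -a := by
      intro c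
      by_cases hc : c = c0
      · rw [hc, hθ0, hpk', neg_smul, one_smul]
      · exact hθ1 c hc
    have hW : W = ⊥ := by
      rcases hirr W (fun h v hv g => by
        rw [← rho_mul_apply]
        exact hv (g * h)) with h | h
      · exact h
      · exfalso
        have h1 : f c0 ∈ W := h ▸ Submodule.mem_top
        have h2 : θ (ρ 1 (f c0)) = 0 := h1 1
        rw [map_one] at h2
        have h3 : θ (f c0) = 0 := h2
        rw [hall, neg_eq_zero] at h3
        exact ha0 h3
    apply ha0
    refine eq_zero_of_fixed hirr hnt a fun g => ?_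
    have h1 : ρ g a - a ∈ W := by
      intro h
      rw [map_sub, map_sub, ← hf0, ← hfs, ← hfs, ← hfs, hall, hall, sub_self]
    rw [hW, Submodule.mem_bot, sub_eq_zero] at h1
    exact h1
  · have h1 : ∀ c, β c = β c0 := by
      intro c
      obtain ⟨g, hg, rfl⟩ := htrans c
      exact mul_left_cancel₀ hpk (hconst g hg)
    rw [← hβ, Finset.sum_congr rfl (fun c _ => by rw [h1 c]), ← Finset.smul_sum, hsum, smul_zero]

end trans

/-- an element of order `p` of a subgroup of index `p + 1` in a simple group has only one fixed point -/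
theorem fix_unique {T : Type*} [Group T] [Finite T] [IsSimpleGroup T] {p : ℕ} (hp : p.Prime) {A : Subgroup T}
    (hA : A.index = p + 1) {x : T} (hxA : x ∈ A) (hx : orderOf x = p) (c : T ⧸ A) (hc : x • c = c) :
    c = ((1 : T) : T ⧸ A) := by
  classical
  have hF : Fact p.Prime := ⟨hp⟩
  by_contra hne
  have hP : IsPGroup p (zpowers x) := IsPGroup.of_card (n := 1) (by rw [Nat.card_zpowers, hx, pow_one])
  have h1 := hP.card_modEq_card_fixedPoints (T ⧸ A)
  have hfix : ∀ d : T ⧸ A, x • d = d → d ∈ MulAction.fixedPoints (zpowers x) (T ⧸ A) := by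
    rintro d hd ⟨z, hz⟩
    have h2 : zpowers x ≤ MulAction.stabilizer T d := zpowers_le.2 (MulAction.mem_stabilizer_iff.2 hd)
    exact MulAction.mem_stabilizer_iff.1 (h2 hz)
  have hx1 : x • ((1 : T) : T ⧸ A) = ((1 : T) : T ⧸ A) := by
    show ((x * 1 : T) : T ⧸ A) = ((1 : T) : T ⧸ A)
    rw [mul_one, QuotientGroup.eq, mul_one]
    exact A.inv_mem hxA
  set m := Nat.card (MulAction.fixedPoints (zpowers x) (T ⧸ A)) with hm
  have hm2 : 2 ≤ m := by
    have h3 : Nontrivial (MulAction.fixedPoints (zpowers x) (T ⧸ A)) :=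
      ⟨⟨c, hfix c hc⟩, ⟨_, hfix _ hx1⟩, fun h => hne (congrArg Subtype.val h)⟩
    exact Finite.one_lt_card
  have hcard : Nat.card (T ⧸ A) = p + 1 := hA
  have hmle : m ≤ p + 1 := by
    rw [← hcard]
    exact Nat.card_le_card_of_injective _ Subtype.val_injective
  rw [hcard] at h1
  have hmp : m = p + 1 := by
    have h4 : p + 1 ≡ m [MOD p] := h1
    have h5 : p ∣ m - 1 := by
      have h6 : 1 ≡ m [MOD p] := by
        have : p + 1 ≡ 1 [MOD p] := by
          show (p + 1) % p = 1 % p
          rw [Nat.add_mod_left]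
        exact this.symm.trans h4
      exact (Nat.modEq_iff_dvd' (by omega)).1 h6
    have h7 := Nat.le_of_dvd (by omega) h5
    omega
  -- all points are fixed
  have hall : ∀ d : T ⧸ A, x • d = d := by
    have h8 : Function.Surjective (Subtype.val : MulAction.fixedPoints (zpowers x) (T ⧸ A) → T ⧸ A) := by
      have h9 : Nat.card (MulAction.fixedPoints (zpowers x) (T ⧸ A)) = Nat.card (T ⧸ A) := by rw [← hm, hmp, hcard]
      exact ((Nat.bijective_iff_injective_and_card _).2 ⟨Subtype.val_injective, h9⟩).2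
    intro d
    obtain ⟨e, rfl⟩ := h8 d
    exact e.2 ⟨x, mem_zpowers x⟩
  have hcore : x ∈ A.normalCore := by
    intro b
    have h10 := hall ((b⁻¹ : T) : T ⧸ A)
    have h11 : ((x * b⁻¹ : T) : T ⧸ A) = ((b⁻¹ : T) : T ⧸ A) := h10
    rw [QuotientGroup.eq] at h11
    have h12 := A.inv_mem h11
    have e : ((x * b⁻¹)⁻¹ * b⁻¹)⁻¹ = b * x * b⁻¹ := by group
    rwa [e] at h12
  rcases A.normalCore_normal.eq_bot_or_eq_top with h | h
  · rw [h, mem_bot] at hcore
    rw [hcore, orderOf_one] at hx
    exact hp.one_lt.ne hx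
  · have h13 : A = ⊤ := top_le_iff.1 (h ▸ A.normalCore_le)
    rw [h13, index_top] at hA
    have := hp.pos
    omega

/-- **The kill for degree `p + 1`**, for simple groups -/
theorem kill_degree {T : Type*} [Group T] [Finite T] [IsSimpleGroup T] {p : ℕ} (hp : p.Prime) {A B : Subgroup T}
    (hB : B.index = p + 1) (hpB : p ∣ Nat.card B) (hcop : A.index.Coprime B.index) {k V : Type*} [Field k]
    [AddCommGroup V] [Module k V] {ρ : Representation k T V} (hirr : Irr ρ) (hnt : Nontriv ρ) {a b : V}
    (ha : ∀ x ∈ A, ρ x a = a) (hb : ∀ x ∈ B, ρ x b = b) : a = 0 ∨ b = 0 := by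
  have hF : Fact p.Prime := ⟨hp⟩
  obtain ⟨x, hx⟩ := exists_prime_orderOf_dvd_card' (G := B) p hpB
  have hx' : orderOf (x : T) = p := by rw [orderOf_coe, hx]
  exact (kill_trans hirr hnt B A hp hB x.2 (by rw [← hx', pow_orderOf_eq_one]) (fix_unique hp hB x.2 hx') hcop.symm
    hb ha).symm

end Cfsg.Agent.H537.Cop
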