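import Cfsg.Agent.H537.CopSC
import Cfsg.Agent.OddHalf.Table.OutSuz

/-!
# Elements of order 11 of `Suz` (helper537)
-/

set_option autoImplicit false

namespace Cfsg.Agent.H537.Cop

open Subgroup Cfsg

theorem suz_11 : SC 11 Spor.Suz := by
  have hc : Nat.card Spor.Suz = 448345497600 := NotCT.Orders.suz ⟨MulEquiv.refl _⟩
  have hf : Finite Spor.Suz := Nat.finite_of_card_ne_zero (by rw [hc]; norm_num)
  refine SC.of_one (x := OddHalf.Table.SuzRep.x) (by norm_num) (by rw [hc]; norm_num) OddHalf.Table.OutSuz.order_x ?_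
  exact (card_cent_of_pow OddHalf.Table.OutSuz.cent_x).trans OddHalf.Table.OutSuz.order_x

end Cfsg.Agent.H537.Cop
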