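import Cfsg.Agent.H537.CopChk
import Cfsg.Agent.H537.CopRowsA
import Cfsg.Agent.H149.Sp.CopCoMain
import Cfsg.Agent.H124.Cop.SCLy
import Cfsg.Agent.H291.SCBaby
import Cfsg.Agent.H604.Cop.Conway

/-!
# The rows of the coprime orbit theorem for `Co1`, `Ly` and the Baby Monster (helper537)
-/

set_option autoImplicit false
set_option maxRecDepth 100000

namespace Cfsg.Agent.H537.Cop

open Subgroup Cfsg Cfsg.Agent.H505.Cop Cfsg.Agent.H393.Sp Cfsg.Agent.OrdDiv

universe u

/-! ### `Ly` -/

theorem chk_ly : chk1 67 51765179004000000 [(2, 8), (3, 7), (5, 6), (7, 1), (11, 1), (31, 1), (37, 1), (67, 1)] = true := by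
  decide +kernel

/-- **Ly** -/
theorem row_ly (hk : Known.{u}) (hk0 : Cfsg.Agent.H995.CopEngine.AllKnown.{0}) {S : Type u} [Group S]
    (h : Spor.IsoLy S) : CopRow S := by
  have hc : Nat.card S = 51765179004000000 := NotCT.Orders.ly h
  have : Finite S := Nat.finite_of_card_ne_zero (by rw [hc]; norm_num)
  have hs : SC 67 S := by
    obtain ⟨e⟩ := h
    exact SC.congr e (Cfsg.Agent.H124.Cop.SCLy.sc hk0)
  exact copRow_of_chk1 hk (p := 67) (by norm_num) hc valid_ly (by decide) (by norm_num) (by norm_num) hs chk_ly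

/-! ### `B` -/

theorem chk_b : chk1 47 4154781481226426191177580544000000
    [(2, 41), (3, 13), (5, 6), (7, 2), (11, 1), (13, 1), (17, 1), (19, 1), (23, 1), (31, 1), (47, 1)] = true := by
  decide +kernel

/-- **B** -/
theorem row_b (hk : Known.{u}) (hk0 : Cfsg.Agent.H995.CopEngine.AllKnown.{0}) {S : Type u} [Group S]
    (h : Spor.IsoB S) : CopRow S := by
  have hc : Nat.card S = 4154781481226426191177580544000000 := NotCT.Orders.b h
  have : Finite S := Nat.finite_of_card_ne_zero (by rw [hc]; norm_num)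
  have hs : SC 47 S := by
    obtain ⟨e⟩ := h
    exact SC.congr e (Cfsg.Agent.H291.SCBaby.sc hk0)
  exact copRow_of_chk1 hk (p := 47) (by norm_num) hc valid_b (by decide) (by norm_num) (by norm_num) hs chk_b

/-! ### `Co1` -/

theorem chk_co1 : chk2 23 [23] [(3, 7, 1), (7, 3, 2), (7, 5, 1), (13, 5, 0), (13, 11, 0)] 4157776806543360000
    [(2, 21), (3, 9), (5, 4), (7, 2), (11, 1), (13, 1), (23, 1)] [] = true := by decide +kernel

theorem co1_23 {G : Type*} [Group G] (h : Spor.IsoCo1 G) : SC 23 G := by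
  obtain ⟨e⟩ := h
  have hf := BpSpor.MBigCo.finite_co1
  have hc := BpSpor.MBigCo.card_co1
  exact SC.congr e (SC.of_one (x := H604.Cop.Conway.s23) (by norm_num) (by rw [hc]; norm_num)
    H604.Cop.Conway.orderOf_s23 ((H604.Cop.Conway.card_eq H604.Cop.Conway.orderOf_s23
      H604.Cop.Conway.card_cent_s23).trans H604.Cop.Conway.orderOf_s23))

theorem co2_23 {G : Type*} [Group G] (h : Spor.IsoCo2 G) : SC 23 G := by
  obtain ⟨e⟩ := h
  exact SC.congr e H604.Cop.Conway.self_co2

theorem co3_23 {G : Type*} [Group G] (h : Spor.IsoCo3 G) : SC 23 G := by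
  obtain ⟨e⟩ := h
  exact SC.congr e H604.Cop.Conway.self_co3

open Cfsg.Agent.H149.Sp Cfsg.Agent.H149.Sp.CopCo in
/-- **Co₁** -/
theorem row_co1 (hk : Known.{u}) {S : Type u} [Group S] [IsSimpleGroup S] (h : Spor.IsoCo1 S) : CopRow S := by
  have hc : Nat.card S = 4157776806543360000 := NotCT.Orders.co1 h
  have : Finite S := Nat.finite_of_card_ne_zero (by rw [hc]; norm_num)
  refine copRow_of_chk2 hk (p := 23) hc valid_co1 (by decide) (by decide) ?_ (by decide) ?_ ?_ ?_ chk_co1
  · simp only [List.mem_cons, List.not_mem_nil, or_false]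
    rintro q rfl
    norm_num
  · simp only [List.mem_cons, List.not_mem_nil, or_false]
    rintro q rfl
    exact co1_23 h
  · obtain ⟨e⟩ := h
    simp only [List.mem_cons, List.not_mem_nil, or_false]
    rintro t (rfl | rfl | rfl | rfl | rfl)
    · exact CB.congr e co1_3_7
    · exact CB.congr e co1_7_3
    · exact CB.congr e co1_7_5
    · exact CB.congr e (co1_p5 p13 p5 (by norm_num) (by norm_num) (by norm_num))
    · exact CB.congr e (co1_p5 p13 p11 (by norm_num) (by norm_num) (by norm_num))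
  · exact fun t ht => absurd ht List.not_mem_nil

end Cfsg.Agent.H537.Cop
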