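import Cfsg.Agent.H537.CopChk
import Cfsg.Agent.H537.CopRowsA
import Cfsg.Agent.H537.CopSC
import Cfsg.Agent.H505.Cop.SCM22

/-!
# The row of the coprime orbit theorem for `M22` (helper537)
-/

set_option autoImplicit false
set_option maxRecDepth 100000

namespace Cfsg.Agent.H537.Cop

open Subgroup Cfsg Cfsg.Agent.H505.Cop Cfsg.Agent.H393.Sp Cfsg.Agent.OrdDiv

universe u

theorem chk_m22 : chk2 11 [11, 7] [] 443520 [(2, 7), (3, 2), (5, 1), (7, 1), (11, 1)] [] = true := by decide +kernel

/-- **M₂₂** -/
theorem row_m22 (hk : Known.{u}) {S : Type u} [Group S] [IsSimpleGroup S] (h : Spor.IsoM22 S) : CopRow S := by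
  have hc : Nat.card S = 443520 := NotCT.Orders.m22 h
  have : Finite S := Nat.finite_of_card_ne_zero (by rw [hc]; norm_num)
  refine copRow_of_chk2 hk (p := 11) hc valid_m22 (by decide) (by decide) ?_ (by decide) ?_ ?_ ?_ chk_m22
  · simp only [List.mem_cons, List.not_mem_nil, or_false]
    rintro q (rfl | rfl) <;> norm_num
  · simp only [List.mem_cons, List.not_mem_nil, or_false]
    rintro q (rfl | rfl)
    · exact m22_11 h
    · exact Cfsg.Agent.H505.Cop.M22.m22_7 h
  · exact fun t ht => absurd ht List.not_mem_nil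
  · exact fun t ht => absurd ht List.not_mem_nil

end Cfsg.Agent.H537.Cop
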