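import Cfsg.Agent.H537.CopChk
import Cfsg.Agent.H537.CopRowsA
import Cfsg.Agent.H647.SpF.HSMcL
import Cfsg.Agent.H647.SpF.Fi22Main
import Cfsg.Agent.H537.CopSC

/-!
# The rows of the coprime orbit theorem for `HS`, `McL`, `Fi22` (helper537)
-/

set_option autoImplicit false
set_option maxRecDepth 100000

namespace Cfsg.Agent.H537.Cop

open Subgroup Cfsg Cfsg.Agent.H505.Cop Cfsg.Agent.H393.Sp Cfsg.Agent.OrdDiv

universe u

theorem chk_hs : chk2 11 [11] [(3, 2, 5), (5, 2, 5), (5, 3, 1), (2, 5, 1), (2, 7, 0)]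
    44352000 [(2, 9), (3, 2), (5, 3), (7, 1), (11, 1)] [] = true := by decide +kernel

/-- **HS** -/
theorem row_hs (hk : Known.{u}) {S : Type u} [Group S] [IsSimpleGroup S] (h : Spor.IsoHS S) : CopRow S := by
  have hc : Nat.card S = 44352000 := NotCT.Orders.hs h
  have : Finite S := Nat.finite_of_card_ne_zero (by rw [hc]; norm_num)
  refine copRow_of_chk2 hk (p := 11) hc valid_hs (by decide) (by decide) ?_ (by decide) ?_ ?_ ?_ chk_hs
  · simp only [List.mem_cons, List.not_mem_nil, or_false]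
    rintro q (rfl) <;> norm_num
  · obtain ⟨e⟩ := h
    simp only [List.mem_cons, List.not_mem_nil, or_false]
    rintro q (rfl)
    · exact SC.congr e Cfsg.Agent.H647.SpF.HS.sc_eleven
  · obtain ⟨e⟩ := h
    simp only [List.mem_cons, List.not_mem_nil, or_false]
    rintro t (rfl | rfl | rfl | rfl | rfl)
    · exact CB.congr e Cfsg.Agent.H647.SpF.HS.cb_three_two
    · exact CB.congr e Cfsg.Agent.H647.SpF.HS.cb_five_two
    · exact CB.congr e Cfsg.Agent.H647.SpF.HS.cb_five_three
    · exact CB.congr e Cfsg.Agent.H647.SpF.HS.cb_two_five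
    · exact CB.congr e Cfsg.Agent.H647.SpF.HS.cb_two_seven
  · exact fun t ht => absurd ht List.not_mem_nil

theorem chk_mcl : chk2 11 [11] [(3, 5, 2), (5, 3, 1), (7, 2, 1), (5, 7, 0), (2, 5, 1)]
    898128000 [(2, 7), (3, 6), (5, 3), (7, 1), (11, 1)] [] = true := by decide +kernel

/-- **McL** -/
theorem row_mcl (hk : Known.{u}) {S : Type u} [Group S] [IsSimpleGroup S] (h : Spor.IsoMcL S) : CopRow S := by
  have hc : Nat.card S = 898128000 := NotCT.Orders.mcl h
  have : Finite S := Nat.finite_of_card_ne_zero (by rw [hc]; norm_num)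
  refine copRow_of_chk2 hk (p := 11) hc valid_mcl (by decide) (by decide) ?_ (by decide) ?_ ?_ ?_ chk_mcl
  · simp only [List.mem_cons, List.not_mem_nil, or_false]
    rintro q (rfl) <;> norm_num
  · obtain ⟨e⟩ := h
    simp only [List.mem_cons, List.not_mem_nil, or_false]
    rintro q (rfl)
    · exact SC.congr e Cfsg.Agent.H647.SpF.McL.sc_eleven
  · obtain ⟨e⟩ := h
    simp only [List.mem_cons, List.not_mem_nil, or_false]
    rintro t (rfl | rfl | rfl | rfl | rfl)
    · exact CB.congr e Cfsg.Agent.H647.SpF.McL.cb_three_five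
    · exact CB.congr e Cfsg.Agent.H647.SpF.McL.cb_five_three
    · exact CB.congr e Cfsg.Agent.H647.SpF.McL.cb_seven_two
    · exact CB.congr e Cfsg.Agent.H647.SpF.McL.cb_five_seven
    · exact CB.congr e Cfsg.Agent.H647.SpF.McL.cb_two_five
  · exact fun t ht => absurd ht List.not_mem_nil

theorem chk_fi22 : chk2 13 [13] [(3, 2, 11), (3, 5, 1), (5, 3, 1), (7, 3, 1), (11, 2, 1), (11, 7, 0), (11, 5, 0), (2, 3, 6), (2, 5, 1)]
    64561751654400 [(2, 17), (3, 9), (5, 2), (7, 1), (11, 1), (13, 1)] [] = true := by decide +kernel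

/-- **Fi₂₂** -/
theorem row_fi22 (hk : Known.{u}) {S : Type u} [Group S] [IsSimpleGroup S] (h : Spor.IsoFi22 S) : CopRow S := by
  have hc : Nat.card S = 64561751654400 := NotCT.Orders.fi22 h
  have : Finite S := Nat.finite_of_card_ne_zero (by rw [hc]; norm_num)
  refine copRow_of_chk2 hk (p := 13) hc valid_fi22 (by decide) (by decide) ?_ (by decide) ?_ ?_ ?_ chk_fi22
  · simp only [List.mem_cons, List.not_mem_nil, or_false]
    rintro q (rfl) <;> norm_num
  · obtain ⟨e⟩ := h
    simp only [List.mem_cons, List.not_mem_nil, or_false]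
    rintro q (rfl)
    · exact SC.congr e (fi22_13 ⟨MulEquiv.refl _⟩)
  · obtain ⟨e⟩ := h
    simp only [List.mem_cons, List.not_mem_nil, or_false]
    rintro t (rfl | rfl | rfl | rfl | rfl | rfl | rfl | rfl | rfl)
    · exact CB.congr e Cfsg.Agent.H647.SpF.Fi22.cb_3_2
    · exact CB.congr e Cfsg.Agent.H647.SpF.Fi22.cb_3_5
    · exact CB.congr e Cfsg.Agent.H647.SpF.Fi22.cb_5_3
    · exact CB.congr e Cfsg.Agent.H647.SpF.Fi22.cb_7_3
    · exact CB.congr e Cfsg.Agent.H647.SpF.Fi22.cb_11_2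
    · exact CB.congr e Cfsg.Agent.H647.SpF.Fi22.cb_11_7
    · exact CB.congr e Cfsg.Agent.H647.SpF.Fi22.cb_11_5
    · exact CB.congr e Cfsg.Agent.H647.SpF.Fi22.cb_2_3
    · exact CB.congr e Cfsg.Agent.H647.SpF.Fi22.cb_2_5
  · exact fun t ht => absurd ht List.not_mem_nil

end Cfsg.Agent.H537.Cop
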