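import Cfsg.Agent.H537.CopChk
import Cfsg.Agent.H537.CopRowsA
import Cfsg.Agent.H537.CopRowsC
import Cfsg.Agent.H149.Sp.CopCoInv
import Cfsg.Agent.H94.CopHN
import Cfsg.Agent.H981.SCTh
import Cfsg.Agent.H58.Cop.MSc

/-!
# The rows of the coprime orbit theorem for `Co2`, `Co3`, `HN`, `Th` and the Monster (helper537)
-/

set_option autoImplicit false
set_option maxRecDepth 100000

namespace Cfsg.Agent.H537.Cop

open Subgroup Cfsg Cfsg.Agent.H505.Cop Cfsg.Agent.H393.Sp Cfsg.Agent.OrdDiv

universe u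

theorem chk_co2 : chk2 23 [23] [(3, 5, 1), (5, 3, 1), (2, 5, 1), (2, 11, 0)]
    42305421312000 [(2, 18), (3, 6), (5, 3), (7, 1), (11, 1), (23, 1)] [] = true := by decide +kernel

/-- **Co₂** -/
theorem row_co2 (hk : Known.{u}) {S : Type u} [Group S] [IsSimpleGroup S] (h : Spor.IsoCo2 S) : CopRow S := by
  have hc : Nat.card S = 42305421312000 := NotCT.Orders.co2 h
  have : Finite S := Nat.finite_of_card_ne_zero (by rw [hc]; norm_num)
  refine copRow_of_chk2 hk (p := 23) hc valid_co2 (by decide) (by decide) ?_ (by decide) ?_ ?_ ?_ chk_co2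
  · simp only [List.mem_cons, List.not_mem_nil, or_false]
    rintro q (rfl) <;> norm_num
  · obtain ⟨e⟩ := h
    simp only [List.mem_cons, List.not_mem_nil, or_false]
    rintro q (rfl)
    · exact SC.congr e Cfsg.Agent.H604.Cop.Conway.self_co2
  · obtain ⟨e⟩ := h
    simp only [List.mem_cons, List.not_mem_nil, or_false]
    rintro t (rfl | rfl | rfl | rfl)
    · exact CB.congr e Cfsg.Agent.H149.Sp.CopCo.co2_3_5
    · exact CB.congr e Cfsg.Agent.H149.Sp.CopCo.co2_5_3
    · exact CB.congr e Cfsg.Agent.H149.Sp.CopCo.co2_2_5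
    · exact CB.congr e Cfsg.Agent.H149.Sp.CopCo.co2_2_11
  · exact fun t ht => absurd ht List.not_mem_nil

theorem chk_co3 : chk2 23 [23] [(3, 5, 1), (5, 3, 1), (11, 3, 0), (5, 7, 0), (2, 5, 1)]
    495766656000 [(2, 10), (3, 7), (5, 3), (7, 1), (11, 1), (23, 1)] [] = true := by decide +kernel

/-- **Co₃** -/
theorem row_co3 (hk : Known.{u}) {S : Type u} [Group S] [IsSimpleGroup S] (h : Spor.IsoCo3 S) : CopRow S := by
  have hc : Nat.card S = 495766656000 := NotCT.Orders.co3 h
  have : Finite S := Nat.finite_of_card_ne_zero (by rw [hc]; norm_num)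
  refine copRow_of_chk2 hk (p := 23) hc valid_co3 (by decide) (by decide) ?_ (by decide) ?_ ?_ ?_ chk_co3
  · simp only [List.mem_cons, List.not_mem_nil, or_false]
    rintro q (rfl) <;> norm_num
  · obtain ⟨e⟩ := h
    simp only [List.mem_cons, List.not_mem_nil, or_false]
    rintro q (rfl)
    · exact SC.congr e Cfsg.Agent.H604.Cop.Conway.self_co3
  · obtain ⟨e⟩ := h
    simp only [List.mem_cons, List.not_mem_nil, or_false]
    rintro t (rfl | rfl | rfl | rfl | rfl)
    · exact CB.congr e Cfsg.Agent.H149.Sp.CopCo.co3_3_5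
    · exact CB.congr e Cfsg.Agent.H149.Sp.CopCo.co3_5_3
    · exact CB.congr e Cfsg.Agent.H149.Sp.CopCo.co3_11_3
    · exact CB.congr e (Cfsg.Agent.H149.Sp.CopCo.co3_p5 Cfsg.Agent.H149.Sp.p5 Cfsg.Agent.H149.Sp.p7 (by norm_num))
    · exact CB.congr e Cfsg.Agent.H149.Sp.CopCo.co3_2_5
  · exact fun t ht => absurd ht List.not_mem_nil

theorem hn_2_5 : CB 2 5 3 Spor.HN := by
  intro t ht hd
  rcases SigZeroHN.card_centralizer_cases ht with ⟨-, h⟩ | ⟨-, h⟩
  · rw [h] at hd
    norm_num at hd
  · rw [h] at hd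
    norm_num at hd

theorem chk_hn : chk2 19 [19] [(3, 2, 9), (5, 2, 9), (11, 2, 1), (2, 5, 3)]
    273030912000000 [(2, 14), (3, 6), (5, 6), (7, 1), (11, 1), (19, 1)] [] = true := by decide +kernel

/-- **HN** -/
theorem row_hn (hk : Known.{u}) {S : Type u} [Group S] [IsSimpleGroup S] (h : Spor.IsoHN S) : CopRow S := by
  have hc : Nat.card S = 273030912000000 := NotCT.Orders.hn h
  have : Finite S := Nat.finite_of_card_ne_zero (by rw [hc]; norm_num)
  refine copRow_of_chk2 hk (p := 19) hc valid_hn (by decide) (by decide) ?_ (by decide) ?_ ?_ ?_ chk_hn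
  · simp only [List.mem_cons, List.not_mem_nil, or_false]
    rintro q (rfl) <;> norm_num
  · obtain ⟨e⟩ := h
    simp only [List.mem_cons, List.not_mem_nil, or_false]
    rintro q (rfl)
    · exact SC.congr e Cfsg.Agent.H94.CopHN.sc_nineteen
  · obtain ⟨e⟩ := h
    simp only [List.mem_cons, List.not_mem_nil, or_false]
    rintro t (rfl | rfl | rfl | rfl)
    · exact CB.congr e Cfsg.Agent.H94.CopHN.cb_three
    · exact CB.congr e Cfsg.Agent.H94.CopHN.cb_five
    · exact CB.congr e Cfsg.Agent.H94.CopHN.cb_eleven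
    · exact CB.congr e hn_2_5
  · exact fun t ht => absurd ht List.not_mem_nil

theorem chk_th : chk1 19 90745943887872000 [(2, 15), (3, 10), (5, 3), (7, 2), (13, 1), (19, 1), (31, 1)] = true := by decide +kernel

/-- **Th** -/
theorem row_th (hk : Known.{u}) {S : Type u} [Group S] (h : Spor.IsoTh S) : CopRow S := by
  have hc : Nat.card S = 90745943887872000 := NotCT.Orders.th h
  have : Finite S := Nat.finite_of_card_ne_zero (by rw [hc]; norm_num)
  have hs : SC 19 S := by
    obtain ⟨e⟩ := h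
    exact SC.congr e Cfsg.Agent.H981.SCTh.sc_th
  exact copRow_of_chk1 hk (p := 19) (by norm_num) hc valid_th (by decide) (by norm_num) (by norm_num) hs chk_th

theorem chk_m : chk1 59 808017424794512875886459904961710757005754368000000000
    [(2, 46), (3, 20), (5, 9), (7, 6), (11, 2), (13, 3), (17, 1), (19, 1), (23, 1), (29, 1), (31, 1), (41, 1), (47, 1), (59, 1), (71, 1)] = true := by
  decide +kernel

/-- **M** -/
theorem row_m (hk : Known.{u}) (hk0 : Cfsg.Agent.H995.CopEngine.AllKnown.{0}) {S : Type u} [Group S]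
    (h : Spor.IsoM S) : CopRow S := by
  have hc : Nat.card S = 808017424794512875886459904961710757005754368000000000 := NotCT.Orders.m h
  have : Finite S := Nat.finite_of_card_ne_zero (by rw [hc]; norm_num)
  have hs : SC 59 S := by
    obtain ⟨e⟩ := h
    exact SC.congr e (Cfsg.Agent.H58.Cop.M.sc_fiftynine hk0)
  exact copRow_of_chk1 hk (p := 59) (by norm_num) hc valid_m (by decide) (by norm_num) (by norm_num) hs chk_m

end Cfsg.Agent.H537.Cop
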