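import Cfsg.Agent.H537.CopChk
import Cfsg.Agent.H537.CopRowsA
import Cfsg.Agent.H537.CopSuzEl
import Cfsg.Agent.H868.CopHe
import Cfsg.Agent.H868.CopSuzB
import Cfsg.Agent.H537.CopHeEl
import Cfsg.Agent.H868.CopHeB
import Cfsg.Agent.H868.CopSuzC

/-!
# The rows of the coprime orbit theorem for `He`, `Suz` (helper537)
-/

set_option autoImplicit false
set_option maxRecDepth 100000

namespace Cfsg.Agent.H537.Cop

open Subgroup Cfsg Cfsg.Agent.H505.Cop Cfsg.Agent.H393.Sp Cfsg.Agent.OrdDiv

universe u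

theorem chk_he : chk2 17 [17] [(3, 7, 2), (7, 5, 0), (7, 2, 3), (2, 7, 1), (7, 3, 1)]
    4030387200 [(2, 10), (3, 3), (5, 2), (7, 3), (17, 1)] [] = true := by decide +kernel

/-- **He** -/
theorem row_he (hk : Known.{u}) {S : Type u} [Group S] [IsSimpleGroup S] (h : Spor.IsoHe S) : CopRow S := by
  have hc : Nat.card S = 4030387200 := NotCT.Orders.he h
  have : Finite S := Nat.finite_of_card_ne_zero (by rw [hc]; norm_num)
  refine copRow_of_chk2 hk (p := 17) hc valid_he (by decide) (by decide) ?_ (by decide) ?_ ?_ ?_ chk_he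
  · simp only [List.mem_cons, List.not_mem_nil, or_false]
    rintro q (rfl) <;> norm_num
  · obtain ⟨e⟩ := h
    simp only [List.mem_cons, List.not_mem_nil, or_false]
    rintro q (rfl)
    · exact SC.congr e he_17
  · obtain ⟨e⟩ := h
    simp only [List.mem_cons, List.not_mem_nil, or_false]
    rintro t (rfl | rfl | rfl | rfl | rfl)
    · exact CB.congr e Cfsg.Agent.H868.CopHe.cb_three_seven
    · exact CB.congr e Cfsg.Agent.H868.CopHe.cb_seven_five
    · exact CB.congr e Cfsg.Agent.H868.CopHe.cb_seven_two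
    · exact CB.congr e Cfsg.Agent.H868.CopHe.cb_two_seven
    · exact CB.congr e Cfsg.Agent.H868.CopHe.cb_seven_three
  · exact fun t ht => absurd ht List.not_mem_nil

theorem chk_suz : chk2 13 [13, 11] [(3, 2, 8), (5, 2, 4), (7, 2, 2), (2, 3, 4), (3, 5, 1)]
    448345497600 [(2, 13), (3, 7), (5, 2), (7, 1), (11, 1), (13, 1)] [] = true := by decide +kernel

/-- **Suz** -/
theorem row_suz (hk : Known.{u}) {S : Type u} [Group S] [IsSimpleGroup S] (h : Spor.IsoSuz S) : CopRow S := by
  have hc : Nat.card S = 448345497600 := NotCT.Orders.suz h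
  have : Finite S := Nat.finite_of_card_ne_zero (by rw [hc]; norm_num)
  refine copRow_of_chk2 hk (p := 13) hc valid_suz (by decide) (by decide) ?_ (by decide) ?_ ?_ ?_ chk_suz
  · simp only [List.mem_cons, List.not_mem_nil, or_false]
    rintro q (rfl | rfl) <;> norm_num
  · obtain ⟨e⟩ := h
    simp only [List.mem_cons, List.not_mem_nil, or_false]
    rintro q (rfl | rfl)
    · exact SC.congr e Cfsg.Agent.H868.CopSuz.sc_thirteen
    · exact SC.congr e suz_11
  · obtain ⟨e⟩ := h
    simp only [List.mem_cons, List.not_mem_nil, or_false]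
    rintro t (rfl | rfl | rfl | rfl | rfl)
    · exact CB.congr e Cfsg.Agent.H868.CopSuz.cb_three_two
    · exact CB.congr e Cfsg.Agent.H868.CopSuz.cb_five_two
    · exact CB.congr e Cfsg.Agent.H868.CopSuz.cb_seven_two
    · exact CB.congr e Cfsg.Agent.H868.CopSuz.cb_two_three
    · exact CB.congr e Cfsg.Agent.H868.CopSuz.cb_three_five
  · exact fun t ht => absurd ht List.not_mem_nil

end Cfsg.Agent.H537.Cop
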