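import Cfsg.Agent.H537.CopRowsB
import Cfsg.Agent.H537.CopRowsC
import Cfsg.Agent.H537.CopRowsD
import Cfsg.Agent.H537.CopRowsE
import Cfsg.Agent.H537.CopRowM22
import Cfsg.Agent.H537.CopRowsF
import Cfsg.Agent.H306.J2.Amb

/-!
# The sporadic rows of the coprime orbit theorem (helper537, with helpers 505, 306, 981, 124, 291, 58, 868, 647, 149,
94, 410)
-/

set_option autoImplicit false

namespace Cfsg.Agent.H537.Cop

open Cfsg Cfsg.Agent.H505.Cop

universe u

/-- **The sporadic groups.** -/
theorem copRow_sporadic (hk : Known.{u}) (hk0 : Cfsg.Agent.H995.CopEngine.AllKnown.{0}) {S : Type u} [Group S]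
    [Finite S] [IsSimpleGroup S] (h : IsSporadicGroup S) : CopRow S := by
  rcases h with h | h | h | h | h | h | h | h | h | h | h | h | h | h | h | h | h | h | h | h | h | h | h | h | h | h
  · exact row_m11 hk h
  · exact row_m12 hk h
  · exact row_m22 hk h
  · exact row_m23 hk h
  · exact row_m24 hk h
  · exact row_j1 hk h
  · exact H306.J2.row_j2 h
  · exact row_j3 hk h
  · exact row_j4 hk h
  · exact row_co1 hk h
  · exact row_co2 hk h
  · exact row_co3 hk h
  · exact row_mcl hk h
  · exact row_hs hk h
  · exact row_suz hk h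
  · exact row_he hk h
  · exact row_ru hk h
  · exact row_on hk h
  · exact row_ly hk hk0 h
  · exact row_fi22 hk h
  · exact row_fi23 hk h
  · exact row_fi24 hk h
  · exact row_hn hk h
  · exact row_th hk h
  · exact row_b hk hk0 h
  · exact row_m hk hk0 h

end Cfsg.Agent.H537.Cop
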