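import Cfsg.Agent.H505.Cop.Red
import Cfsg.Agent.H537.CopDefs

/-!
# Coprime orbits: the criterion with an `l`-nilpotent subgroup (helper537)

If `b` is a non-zero vector fixed by a subgroup `X` with a normal `l'`-subgroup of `l`-power index, then a non-zero
functional is fixed by `X`; hence no non-zero vector is fixed by a subgroup of coprime index.
-/

set_option autoImplicit false

namespace Cfsg.Agent.H537.Cop

open Subgroup Cfsg.Agent.H505.Cop

section functional

variable {l : ℕ} [Fact l.Prime] {V H : Type*} [AddCommGroup V] [Module (ZMod l) V] [Finite V] [Group H] [Finite H]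

/-- An `l`-nilpotent subgroup fixing a non-zero vector fixes a non-zero functional. -/
theorem exists_functional (ρ : Representation (ZMod l) H V) (X N : Subgroup H) (hNX : N ≤ X)
    (hn : X ≤ normalizer (N : Set H)) (hN : ¬ l ∣ Nat.card N) (hidx : ∃ k, N.relIndex X = l ^ k) {b : V}
    (hb : b ≠ 0) (hfix : ∀ x ∈ N, ρ x b = b) :
    ∃ φ : V →ₗ[ZMod l] ZMod l, φ ≠ 0 ∧ ∀ x ∈ X, ∀ v, φ (ρ x v) = φ v := by
  classical
  -- the functionals fixed by `N`
  let W : AddSubgroup (V →ₗ[ZMod l] ZMod l) :=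
    { carrier := {φ | ∀ x ∈ N, ∀ v, φ (ρ x v) = φ v}
      add_mem' := fun {φ ψ} h1 h2 x hx v => by rw [LinearMap.add_apply, LinearMap.add_apply, h1 x hx, h2 x hx]
      zero_mem' := fun x hx v => by simp
      neg_mem' := fun {φ} h1 x hx v => by rw [LinearMap.neg_apply, LinearMap.neg_apply, h1 x hx] }
  have hfinD : Finite (V →ₗ[ZMod l] ZMod l) := Finite.of_injective (fun φ => (φ : V → ZMod l)) DFunLike.coe_injective
  have hfinW : Finite W := inferInstance
  -- a non-zero element of `W`
  obtain ⟨φ0, hφ0W, hφ0⟩ : ∃ φ ∈ W, φ ≠ 0 := by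
    have hfN : Fintype N := Fintype.ofFinite _
    obtain ⟨f, hf⟩ := Module.Projective.exists_dual_ne_zero (ZMod l) hb
    let φ : V →ₗ[ZMod l] ZMod l := ∑ x : N, f ∘ₗ ρ (x : H)
    refine ⟨φ, ?_, ?_⟩
    · intro x hx v
      simp only [φ, LinearMap.sum_apply, LinearMap.comp_apply]
      refine Fintype.sum_equiv (Equiv.mulRight ⟨x, hx⟩) _ _ ?_
      intro y
      rw [← rho_mul_apply]
      rfl
    · intro h
      have h1 : φ b = (Nat.card N : ZMod l) * f b := by
        simp only [φ, LinearMap.sum_apply, LinearMap.comp_apply]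
        rw [Finset.sum_congr rfl (fun x _ => by rw [hfix x.1 x.2]), Finset.sum_const, Finset.card_univ, nsmul_eq_mul,
          Nat.card_eq_fintype_card]
      rw [h, LinearMap.zero_apply] at h1
      rcases mul_eq_zero.1 h1.symm with h2 | h2
      · exact hN ((ZMod.natCast_eq_zero_iff _ _).1 h2)
      · exact hf h2
  -- a Sylow `l`-subgroup of `X` acts on `W`
  obtain ⟨S⟩ : Nonempty (Sylow l X) := inferInstance
  let act : MulAction S W :=
    { smul := fun s φ => ⟨φ.1 ∘ₗ ρ ((s : X) : H)⁻¹, by
        intro x hx v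
        have h1 : ((s : X) : H)⁻¹ * x * ((s : X) : H) ∈ N := by
          have h2 := (mem_normalizer_iff.1 (hn (s : X).2) (((s : X) : H)⁻¹ * x * ((s : X) : H))).2 (by
            have e : ((s : X) : H) * (((s : X) : H)⁻¹ * x * ((s : X) : H)) * ((s : X) : H)⁻¹ = x := by group
            rw [e]; exact hx)
          exact h2
        rw [LinearMap.comp_apply, LinearMap.comp_apply, ← rho_mul_apply]
        have e : ((s : X) : H)⁻¹ * x = (((s : X) : H)⁻¹ * x * ((s : X) : H)) * ((s : X) : H)⁻¹ := by group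
        rw [e, rho_mul_apply, φ.2 _ h1]⟩
      one_smul := fun φ => by
        apply Subtype.ext
        ext v
        show φ.1 (ρ (((1 : S) : X) : H)⁻¹ v) = φ.1 v
        simp
      mul_smul := fun s t φ => by
        apply Subtype.ext
        ext v
        show φ.1 (ρ (((s * t : S) : X) : H)⁻¹ v) = φ.1 (ρ ((t : X) : H)⁻¹ (ρ ((s : X) : H)⁻¹ v))
        rw [← rho_mul_apply]
        congr 2
        push_cast
        group }
  have hsmul : ∀ (s : S) (φ : W) (v : V), ((s • φ : W) : V →ₗ[ZMod l] ZMod l) v = φ.1 (ρ ((s : X) : H)⁻¹ v) :=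
    fun s φ v => rfl
  have hcard : l ∣ Nat.card W := by
    have h1 : (⟨φ0, hφ0W⟩ : W) ≠ 0 := fun h => hφ0 (congrArg Subtype.val h)
    have h2 : addOrderOf (⟨φ0, hφ0W⟩ : W) = l := by
      refine addOrderOf_eq_prime ?_ h1
      apply Subtype.ext
      show l • φ0 = 0
      ext v
      rw [LinearMap.smul_apply, nsmul_eq_mul, CharP.cast_eq_zero, zero_mul, LinearMap.zero_apply]
    have h3 := addOrderOf_dvd_natCard (⟨φ0, hφ0W⟩ : W)
    rwa [h2] at h3
  have hfixed : ∃ φ : W, φ ≠ 0 ∧ φ ∈ MulAction.fixedPoints S W := by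
    have h0 : (0 : W) ∈ MulAction.fixedPoints S W := by
      intro s
      apply Subtype.ext
      ext v
      rfl
    obtain ⟨φ, h1, h2⟩ := S.2.exists_fixed_point_of_prime_dvd_card_of_fixed_point W hcard h0
    exact ⟨φ, fun h => h2 h.symm, h1⟩
  obtain ⟨φ, hφ1, hφ2⟩ := hfixed
  refine ⟨φ.1, fun h => hφ1 (Subtype.ext h), ?_⟩
  -- the stabilizer of `φ` contains `N` and `S`
  let Y : Subgroup H :=
    { carrier := {x | ∀ v, φ.1 (ρ x v) = φ.1 v}
      mul_mem' := fun {x y} hx hy v => by rw [rho_mul_apply, hx, hy]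
      one_mem' := fun v => by simp
      inv_mem' := fun {x} hx v => by
        conv_rhs => rw [← rho_apply_inv ρ x v]
        rw [hx] }
  have hNY : N ≤ Y := fun x hx => φ.2 x hx
  have hSY : ((S : Subgroup X).map X.subtype) ≤ Y := by
    rintro _ ⟨s, hs, rfl⟩
    have h1 := hφ2 ⟨s, hs⟩⁻¹
    intro v
    have h2 := LinearMap.congr_fun (congrArg Subtype.val h1) v
    rw [hsmul] at h2
    simpa using h2
  have hXY : X ≤ Y := by
    -- the index of `Y ∩ X` in `X` divides a power of `l` and is prime to `l`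
    obtain ⟨k, hk⟩ := hidx
    have h1 : (Y.subgroupOf X).index ∣ l ^ k := by
      rw [← hk]
      exact index_dvd_of_le (subgroupOf_mono X hNY)
    have h2 : ¬ l ∣ (Y.subgroupOf X).index := by
      have h3 : (S : Subgroup X) ≤ Y.subgroupOf X := by
        intro s hs
        exact hSY ⟨s, hs, rfl⟩
      exact fun h => S.not_dvd_index (h.trans (index_dvd_of_le h3))
    have h3 : (Y.subgroupOf X).index = 1 := by
      obtain ⟨j, -, hj⟩ := (Nat.dvd_prime_pow (Fact.out : l.Prime)).1 h1
      rcases Nat.eq_zero_or_pos j with h | h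
      · rw [hj, h, pow_zero]
      · exact absurd (hj ▸ dvd_pow_self l h.ne') h2
    exact relIndex_eq_one.1 h3
  exact fun x hx v => hXY hx v

/-- **The criterion**: `A`, `X` of coprime indices, `X` with a normal `l'`-subgroup of `l`-power index. -/
theorem kill {ρ : Representation (ZMod l) H V} (hirr : Irr ρ) (hnt : Nontriv ρ) (A X N : Subgroup H)
    (hcop : A.index.Coprime X.index) (hNX : N ≤ X) (hn : X ≤ normalizer (N : Set H)) (hN : ¬ l ∣ Nat.card N)
    (hidx : ∃ k, N.relIndex X = l ^ k) {a b : V} (hA : ∀ x ∈ A, ρ x a = a) (hX : ∀ x ∈ X, ρ x b = b) :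
    a = 0 ∨ b = 0 := by
  by_cases hb : b = 0
  · exact Or.inr hb
  obtain ⟨φ, h1, h2⟩ := exists_functional ρ X N hNX hn hN hidx hb (fun x hx => hX x (hNX hx))
  rcases pairing hirr hnt A X hcop a hA φ h2 with h | h
  · exact Or.inl h
  · exact absurd h h1

omit [Finite V] in
/-- characteristic prime to `|A|` -/
theorem kill_card {ρ : Representation (ZMod l) H V} (hirr : Irr ρ) (hnt : Nontriv ρ) (A B : Subgroup H)
    (hcop : A.index.Coprime B.index) {a b : V} (hA : ∀ x ∈ A, ρ x a = a) (hB : ∀ x ∈ B, ρ x b = b)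
    (hl : ¬ l ∣ Nat.card A ∨ ¬ l ∣ Nat.card B) : a = 0 ∨ b = 0 := by
  rcases hl with h | h
  · exact (of_card_ne_zero hirr hnt B A hcop.symm b a hB hA
      (fun h1 => h ((ZMod.natCast_eq_zero_iff _ _).1 h1))).symm
  · exact of_card_ne_zero hirr hnt A B hcop a b hA hB (fun h1 => h ((ZMod.natCast_eq_zero_iff _ _).1 h1))

end functional

section complement

variable {X : Type*} [Group X] [Finite X]

/-- a group which is (`l'`-group)-by-abelian has a normal `l'`-subgroup of `l`-power index -/
theorem exists_complement {l : ℕ} (hl : l.Prime) (P : Subgroup X) [hn : P.Normal]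
    (hcomm : ∀ a b : X, ∃ c ∈ P, a * b = b * a * c) (hP : ¬ l ∣ Nat.card P) :
    ∃ N : Subgroup X, N.Normal ∧ ¬ l ∣ Nat.card N ∧ ∃ k, N.index = l ^ k := by
  have : Fact l.Prime := ⟨hl⟩
  have hab : ∀ a b : X ⧸ P, a * b = b * a := by
    intro a b
    induction a using QuotientGroup.induction_on with
    | H a =>
      induction b using QuotientGroup.induction_on with
      | H b =>
        obtain ⟨c, hc, h⟩ := hcomm a b
        have h1 : (c : X ⧸ P) = 1 := (QuotientGroup.eq_one_iff c).2 hc
        have h2 : ((a * b : X) : X ⧸ P) = ((b * a * c : X) : X ⧸ P) := congrArg _ h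
        have h3 : ((b * a * c : X) : X ⧸ P) = (b : X ⧸ P) * (a : X ⧸ P) * (c : X ⧸ P) := rfl
        rw [h3, h1, mul_one] at h2
        exact h2
  let _ : CommGroup (X ⧸ P) := { (inferInstance : Group (X ⧸ P)) with mul_comm := hab }
  let n := Nat.card (X ⧸ P)
  let D : Subgroup (X ⧸ P) := (powMonoidHom (l ^ n.factorization l)).range
  have hn0 : n ≠ 0 := Nat.card_pos.ne'
  have hD : ¬ l ∣ Nat.card D := by
    intro h
    obtain ⟨y, hy⟩ := exists_prime_orderOf_dvd_card' l h
    obtain ⟨x, hx⟩ := y.2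
    have h1 : (y : X ⧸ P) ^ (n / l ^ n.factorization l) = 1 := by
      rw [← hx]
      show (x ^ (l ^ n.factorization l)) ^ (n / l ^ n.factorization l) = 1
      rw [← pow_mul, Nat.mul_div_cancel' (Nat.ordProj_dvd n l)]
      exact pow_card_eq_one'
    have h2 : l ∣ n / l ^ n.factorization l := by
      have h3 := orderOf_dvd_of_pow_eq_one h1
      rwa [Subgroup.orderOf_coe, hy] at h3
    exact (Nat.not_dvd_ordCompl hl hn0) h2
  have hDi : ∃ k, D.index = l ^ k := by
    have h1 : IsPGroup l ((X ⧸ P) ⧸ D) := by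
      intro x
      induction x using QuotientGroup.induction_on with
      | H x =>
        refine ⟨n.factorization l, ?_⟩
        rw [← QuotientGroup.mk_pow, QuotientGroup.eq_one_iff]
        exact ⟨x, rfl⟩
    obtain ⟨k, hk⟩ := IsPGroup.iff_card.1 h1
    exact ⟨k, hk⟩
  refine ⟨D.comap (QuotientGroup.mk' P), inferInstance, ?_, ?_⟩
  · have h1 : Nat.card (D.comap (QuotientGroup.mk' P)) = Nat.card P * Nat.card D := by
      have h2 := (D.comap (QuotientGroup.mk' P)).card_mul_index
      rw [index_comap_of_surjective _ (QuotientGroup.mk'_surjective P)] at h2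
      have h3 := P.card_mul_index
      have h4 := D.card_mul_index
      rw [← Subgroup.index_eq_card] at h4
      rw [← h4, ← h2, ← mul_assoc] at h3
      exact (Nat.eq_of_mul_eq_mul_right (Nat.pos_of_ne_zero D.index_ne_zero_of_finite) h3).symm
    rw [h1]
    exact fun h => (hl.dvd_mul.1 h).elim hP hD
  · rw [index_comap_of_surjective _ (QuotientGroup.mk'_surjective P)]
    exact hDi

end complement

end Cfsg.Agent.H537.Cop
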