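import Cfsg.Agent.H537.CopOrd
import Cfsg.Agent.Lib.MinNormal
import Cfsg.Agent.Lib.SubnormalJoin
import Cfsg.Agent.H393.Core

/-!
# Coprime orbits: minimal normal subgroups and bounds for centralizers (helper537)
-/

set_option autoImplicit false

namespace Cfsg.Agent.H537.Cop

open Subgroup

section action

theorem CB.sub {r s j : ℕ} {G : Type*} [Group G] (h : CB r s j G) (B : Subgroup G) : CB r s j B := by
  intro x hx hd
  refine h x (by rw [orderOf_coe, hx]) (hd.trans ?_)
  have h2 : (centralizer ({x} : Set B)).map B.subtype ≤ centralizer ({(x : G)} : Set G) := by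
    rintro _ ⟨y, hy, rfl⟩
    rw [mem_centralizer_singleton_iff]
    exact congrArg Subtype.val (mem_centralizer_singleton_iff.1 hy)
  have h3 : Nat.card ((centralizer ({x} : Set B)).map B.subtype) = Nat.card (centralizer ({x} : Set B)) :=
    card_map_of_injective B.subtype_injective
  rw [← h3]
  exact card_dvd_of_le h2

theorem card_cent_dvd_pow {G : Type*} [Group G] (x : G) (n : ℕ) :
    Nat.card (centralizer ({x} : Set G)) ∣ Nat.card (centralizer ({x ^ n} : Set G)) := by
  refine card_dvd_of_le fun y hy => ?_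
  rw [mem_centralizer_singleton_iff] at hy ⊢
  have h : Commute y x := hy
  exact (h.pow_right n).eq

/-- orbits of sizes divisible by `s ^ m` -/
theorem dvd_card_of_orbits {S α : Type*} [Group S] [Finite S] [Finite α] [MulAction S α] {d : ℕ}
    (h : ∀ a : α, d ∣ (MulAction.stabilizer S a).index) : d ∣ Nat.card α := by
  classical
  have := Fintype.ofFinite α
  have := Fintype.ofFinite (MulAction.orbitRel.Quotient S α)
  have e := MulAction.selfEquivSigmaOrbits S α
  rw [Nat.card_congr e, Nat.card_sigma]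
  refine Finset.dvd_sum fun ω _ => ?_
  rw [Nat.card_congr (MulAction.orbitEquivQuotientStabilizer S (Quotient.out ω))]
  exact h _

theorem pow_sub_dvd_index {S : Type*} [Group S] [Finite S] {s v c : ℕ} (hs : s.Prime) (hS : Nat.card S = s ^ v)
    (H : Subgroup S) (hH : ¬ s ^ (c + 1) ∣ Nat.card H) : s ^ (v - c) ∣ H.index := by
  have h1 := H.card_mul_index
  rw [hS] at h1
  obtain ⟨i, -, hi⟩ := (Nat.dvd_prime_pow hs).1 (Dvd.intro _ h1)
  obtain ⟨j, -, hj⟩ := (Nat.dvd_prime_pow hs).1 (Dvd.intro_left _ h1)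
  rw [hi, hj, ← pow_add] at h1
  have h2 := Nat.pow_right_injective hs.two_le h1
  have h3 : i ≤ c := by
    by_contra hc
    exact hH (hi ▸ pow_dvd_pow s (by omega))
  rw [hj]
  exact pow_dvd_pow s (by omega)

variable {X : Type*} [Group X] [Finite X]

/-- the action by conjugation on the non-trivial elements of a normalized subgroup -/
@[reducible] def conjAct (R S : Subgroup X) (h : S ≤ normalizer (R : Set X)) : MulAction S {q : R // q ≠ 1} where
  smul s q := ⟨⟨s * q.1 * (s : X)⁻¹, (mem_normalizer_iff.1 (h s.2) _).1 q.1.2⟩, fun h1 => q.2 (by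
    have h2 : (s : X) * q.1 * (s : X)⁻¹ = 1 := congrArg Subtype.val h1
    apply Subtype.ext
    have h3 : (q.1 : X) = (s : X)⁻¹ * ((s : X) * q.1 * (s : X)⁻¹) * s := by group
    rw [h3, h2]
    show (s : X)⁻¹ * 1 * s = 1
    group)⟩
  one_smul q := by
    apply Subtype.ext
    apply Subtype.ext
    show ((1 : S) : X) * q.1 * ((1 : S) : X)⁻¹ = q.1
    rw [OneMemClass.coe_one]
    group
  mul_smul s t q := by
    apply Subtype.ext
    apply Subtype.ext
    show ((s * t : S) : X) * q.1 * ((s * t : S) : X)⁻¹ = s * (t * q.1 * (t : X)⁻¹) * (s : X)⁻¹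
    rw [Subgroup.coe_mul]
    group

theorem card_ne_one (R : Subgroup X) : Nat.card {q : R // q ≠ 1} = Nat.card R - 1 := by
  classical
  have := Fintype.ofFinite R
  rw [Nat.card_eq_fintype_card, Nat.card_eq_fintype_card, Fintype.card_subtype_compl, Fintype.card_subtype_eq]

/-- the number of non-trivial elements of a normalized `r`-subgroup -/
theorem pow_sub_dvd {r s v c : ℕ} (hr : r.Prime) (hs : s.Prime) (hc : CB r s c X) {R S : Subgroup X}
    (hR : IsPGroup r R) (hS : Nat.card S = s ^ v) (hSR : S ≤ normalizer (R : Set X)) :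
    s ^ (v - c) ∣ Nat.card R - 1 := by
  have hF : Fact r.Prime := ⟨hr⟩
  let _ := conjAct R S hSR
  rw [← card_ne_one]
  refine dvd_card_of_orbits (S := S) fun q => pow_sub_dvd_index hs hS _ fun hd => ?_
  -- a power of `q` of order `r`
  obtain ⟨k, hk⟩ := (IsPGroup.iff_orderOf.1 hR) q.1
  have hk0 : k ≠ 0 := by
    rintro rfl
    rw [pow_zero, orderOf_eq_one_iff] at hk
    exact q.2 hk
  obtain ⟨m, rfl⟩ := Nat.exists_eq_succ_of_ne_zero hk0
  have hk' : orderOf (q.1 : X) = r ^ (m + 1) := by rw [orderOf_coe, hk]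
  have h1 : orderOf ((q.1 : X) ^ r ^ m) = r := by
    rw [orderOf_pow_of_dvd (pow_ne_zero _ hr.ne_zero) (by rw [hk']; exact pow_dvd_pow r (Nat.le_succ m)), hk', pow_succ,
      Nat.mul_div_cancel_left _ (pow_pos hr.pos m)]
  refine hc _ h1 ((hd.trans ?_).trans (card_cent_dvd_pow (q.1 : X) (r ^ m)))
  have h2 : (MulAction.stabilizer S q).map S.subtype ≤ centralizer ({(q.1 : X)} : Set X) := by
    rintro _ ⟨g, hg, rfl⟩
    rw [mem_centralizer_singleton_iff]
    have h3 : (g : X) * q.1 * (g : X)⁻¹ = q.1 := congrArg (fun z : {q : R // q ≠ 1} => ((z : R) : X)) hg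
    exact mul_inv_eq_iff_eq_mul.1 h3
  have h3 : Nat.card ((MulAction.stabilizer S q).map S.subtype) = Nat.card (MulAction.stabilizer S q) :=
    card_map_of_injective S.subtype_injective
  rw [← h3]
  exact card_dvd_of_le h2

/-- the number of fixed points of an element of prime order -/
theorem exists_fix {r s c : ℕ} (hr : r.Prime) (hs : s.Prime) (hc : CB s r c X) {R : Subgroup X} {k : ℕ}
    (hR : Nat.card R = r ^ k) {x : X} (hx : orderOf x = s) (hxR : x ∈ normalizer (R : Set X)) :
    ∃ j, j ≤ k ∧ j ≤ c ∧ r ^ k % s = r ^ j % s ∧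
      (j = 0 → ∀ y ∈ R, x * y = y * x → y = 1) := by
  have hF : Fact s.Prime := ⟨hs⟩
  let C : Subgroup X := R ⊓ centralizer ({x} : Set X)
  have hCR : Nat.card C ∣ r ^ k := hR ▸ card_dvd_of_le inf_le_left
  obtain ⟨j, hj, hCj⟩ := (Nat.dvd_prime_pow hr).1 hCR
  refine ⟨j, hj, ?_, ?_, ?_⟩
  · by_contra h
    refine hc x hx ((pow_dvd_pow r (by omega : c + 1 ≤ j)).trans ?_)
    rw [← hCj]
    exact card_dvd_of_le inf_le_right
  · -- counting
    have hP : IsPGroup s (zpowers x) := IsPGroup.of_card (n := 1) (by rw [Nat.card_zpowers, hx, pow_one])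
    have hle : zpowers x ≤ normalizer (R : Set X) := zpowers_le.2 hxR
    let act : MulAction (zpowers x) R :=
      { smul := fun s q => ⟨s * q * (s : X)⁻¹, (mem_normalizer_iff.1 (hle s.2) _).1 q.2⟩
        one_smul := fun q => by
          apply Subtype.ext
          show ((1 : zpowers x) : X) * q * ((1 : zpowers x) : X)⁻¹ = q
          rw [OneMemClass.coe_one]
          group
        mul_smul := fun s t q => by
          apply Subtype.ext
          show ((s * t : zpowers x) : X) * q * ((s * t : zpowers x) : X)⁻¹ = s * (t * q * (t : X)⁻¹) * (s : X)⁻¹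
          rw [Subgroup.coe_mul]
          group }
    have h1 := hP.card_modEq_card_fixedPoints R
    have h2 : Nat.card (MulAction.fixedPoints (zpowers x) R) = Nat.card C := by
      refine Nat.card_congr ⟨fun q => ⟨(q : R), ?_⟩, fun y => ⟨⟨y, y.2.1⟩, ?_⟩, fun q => rfl, fun y => rfl⟩
      · refine ⟨(q : R).2, ?_⟩
        have h3 := congrArg Subtype.val (q.2 ⟨x, mem_zpowers x⟩)
        have h4 : x * ((q : R) : X) * x⁻¹ = ((q : R) : X) := h3
        exact mem_centralizer_singleton_iff.2 (mul_inv_eq_iff_eq_mul.1 h4).symm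
      · rintro ⟨z, hz⟩
        apply Subtype.ext
        obtain ⟨n, rfl⟩ := mem_zpowers_iff.1 hz
        show x ^ n * (y : X) * (x ^ n)⁻¹ = y
        have h3 : Commute (y : X) x := mem_centralizer_singleton_iff.1 y.2.2
        rw [mul_inv_eq_iff_eq_mul]
        exact (h3.zpow_right n).symm.eq
    rw [h2, hR, hCj] at h1
    exact h1
  · rintro rfl y hy hxy
    have h1 : C = ⊥ := card_eq_one.1 (by rw [hCj, pow_zero])
    have h2 : y ∈ C := ⟨hy, mem_centralizer_singleton_iff.2 hxy.symm⟩
    rw [h1, mem_bot] at h2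
    exact h2

/-- the numerical conditions for an `s`-subgroup of order `s ^ v` acting on an `r`-subgroup of order `r ^ k` -/
def act (r k s v c1 c2 : ℕ) : Bool :=
  and (Nat.beq ((r ^ k - 1) % s ^ (v - c1)) 0)
    (or ((List.range (min k c2)).any fun i => Nat.beq (r ^ k % s) (r ^ (i + 1) % s))
      (Nat.beq ((r ^ k - 1) % s ^ v) 0))

theorem act_of {r s k v c1 c2 : ℕ} (hr : r.Prime) (hs : s.Prime) (h1 : CB r s c1 X) (h2 : CB s r c2 X)
    {R S : Subgroup X} (hR : Nat.card R = r ^ k) (hS : s ^ v ∣ Nat.card S) (hSR : S ≤ normalizer (R : Set X)) :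
    act r k s v c1 c2 = true := by
  have hF : Fact s.Prime := ⟨hs⟩
  have hFr : Fact r.Prime := ⟨hr⟩
  have hRp : IsPGroup r R := IsPGroup.of_card hR
  obtain ⟨S₀, hS₀⟩ := Sylow.exists_subgroup_card_pow_prime s hS
  let S' : Subgroup X := S₀.map S.subtype
  have hS' : Nat.card S' = s ^ v := by
    rw [card_map_of_injective S.subtype_injective]
    exact hS₀
  have hS'R : S' ≤ normalizer (R : Set X) := (map_subtype_le S₀).trans hSR
  unfold act
  rw [Bool.and_eq_true, Bool.or_eq_true]
  refine ⟨?_, ?_⟩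
  · have h3 := pow_sub_dvd hr hs h1 hRp hS' hS'R
    rw [hR] at h3
    rw [Nat.mod_eq_zero_of_dvd h3]
    rfl
  · by_cases hj : ∃ x ∈ S', orderOf x = s ∧ ∃ y ∈ R, x * y = y * x ∧ y ≠ 1
    · left
      obtain ⟨x, hxS, hx, y, hy, hxy, hy1⟩ := hj
      obtain ⟨j, hjk, hjc, hmod, h0⟩ := exists_fix hr hs h2 hR hx (hS'R hxS)
      have hj0 : j ≠ 0 := fun h => hy1 (h0 h y hy hxy)
      rw [List.any_eq_true]
      refine ⟨j - 1, List.mem_range.2 (by omega), ?_⟩
      rw [Nat.sub_add_cancel (by omega), hmod]
      exact Nat.beq_refl _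
    · right
      push Not at hj
      let _ := conjAct R S' hS'R
      have h3 : s ^ v ∣ Nat.card {q : R // q ≠ 1} := by
        refine dvd_card_of_orbits (S := S') fun q => ?_
        have h4 : MulAction.stabilizer S' q = ⊥ := by
          by_contra hne
          have h5 : s ∣ Nat.card (MulAction.stabilizer S' q) := by
            have h6 := card_subgroup_dvd_card (MulAction.stabilizer S' q)
            rw [hS'] at h6
            obtain ⟨i, -, hi⟩ := (Nat.dvd_prime_pow hs).1 h6
            rw [hi]
            rcases Nat.eq_zero_or_pos i with h7 | h7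
            · rw [h7, pow_zero] at hi
              exact absurd (card_eq_one.1 hi) hne
            · exact dvd_pow_self s h7.ne'
          obtain ⟨g, hg⟩ := exists_prime_orderOf_dvd_card' s h5
          have hg' : orderOf (((g : MulAction.stabilizer S' q) : S') : X) = s := by
            rw [orderOf_coe, orderOf_coe, hg]
          have h6 : (((g : S') : X)) * q.1 * ((g : S') : X)⁻¹ = q.1 :=
            congrArg (fun z : {q : R // q ≠ 1} => ((z : R) : X)) g.2
          exact q.2 (Subtype.ext (hj _ (g : S').2 hg' _ q.1.2 (mul_inv_eq_iff_eq_mul.1 h6)))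
        rw [h4, index_bot, hS']
      rw [card_ne_one, hR] at h3
      rw [Nat.mod_eq_zero_of_dvd h3]
      rfl

end action

section minimal

variable {X : Type*} [Group X] [Finite X]

/-- a minimal normal subgroup -/
theorem exists_min [Nontrivial X] : ∃ M : Subgroup X, M.Normal ∧
    ((∃ r, r.Prime ∧ ∃ k, k ≠ 0 ∧ Nat.card M = r ^ k) ∨
    (∃ L : Subgroup X, IsSimpleGroup L ∧ (¬ ∀ a b : L, a * b = b * a) ∧ ∃ k, k ≠ 0 ∧
      Nonempty (M ≃* (Fin k → L)))) := by
  obtain ⟨M, hMn, hM1, hmin⟩ := Lib.SubnormalJoin.exists_minimal_normal X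
  obtain ⟨L, m, -, hL, hm, ⟨e⟩⟩ := Lib.MinNormal.exists_mulEquiv_pi M hM1 hmin
  refine ⟨M, hMn, ?_⟩
  by_cases hcomm : ∀ a b : L, a * b = b * a
  · left
    let _ : CommGroup L := { (inferInstance : Group L) with mul_comm := hcomm }
    have h1 : (Nat.card L).Prime := IsSimpleGroup.prime_card
    refine ⟨_, h1, m, hm.ne', ?_⟩
    rw [Nat.card_congr e.toEquiv, Nat.card_pi, Finset.prod_const, Finset.card_univ, Fintype.card_fin]
  · exact Or.inr ⟨L, hL, hcomm, m, hm.ne', ⟨e⟩⟩

omit [Finite X] in
theorem card_of_pi {M : Subgroup X} {L : Type*} [Group L] [Finite L] {k : ℕ} (e : M ≃* (Fin k → L)) :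
    Nat.card M = Nat.card L ^ k := by
  rw [Nat.card_congr e.toEquiv, Nat.card_pi, Finset.prod_const, Finset.card_univ, Fintype.card_fin]

omit [Finite X] in
/-- the other factors centralize an element of the first factor -/
theorem pi_cent {M : Subgroup X} {L : Type*} [Group L] [Finite L] {k : ℕ} (hk : k ≠ 0) (e : M ≃* (Fin k → L))
    {r s c : ℕ} (hr : r.Prime) (hrL : r ∣ Nat.card L) (hc : CB r s c X) : ¬ s ^ (c + 1) ∣ Nat.card L ^ (k - 1) := by
  intro hd
  obtain ⟨m, rfl⟩ := Nat.exists_eq_succ_of_ne_zero hk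
  have hF : Fact r.Prime := ⟨hr⟩
  obtain ⟨y, hy⟩ := exists_prime_orderOf_dvd_card' r hrL
  -- the element of the first factor
  let f : Fin (m + 1) → L := Function.update 1 0 y
  have hf : orderOf f = r := by
    have h1 : f ^ r = 1 := by
      funext i
      by_cases hi : i = 0
      · subst hi
        show (f 0) ^ r = 1
        simp only [f, Function.update_self]
        rw [← hy, pow_orderOf_eq_one]
      · show (f i) ^ r = 1
        simp only [f, Function.update_of_ne hi, Pi.one_apply, one_pow]
    refine orderOf_eq_prime h1 fun h2 => ?_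
    have h3 : y = 1 := by
      have := congrFun h2 0
      simpa [f] using this
    rw [h3, orderOf_one] at hy
    exact hr.one_lt.ne hy
  let x : M := e.symm f
  have hx : orderOf (x : X) = r := by
    rw [orderOf_coe, MulEquiv.orderOf_eq, hf]
  refine hc x hx (hd.trans ?_)
  -- the homomorphism from the product of the other factors
  let φ : (Fin m → L) →* X :=
    { toFun := fun g => ((e.symm (Fin.cons 1 g : Fin (m + 1) → L) : M) : X)
      map_one' := by
        have h1 : (Fin.cons 1 (1 : Fin m → L) : Fin (m + 1) → L) = 1 := by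
          funext i
          refine Fin.cases ?_ (fun j => ?_) i
          · rfl
          · rfl
        rw [h1, map_one]
        rfl
      map_mul' := fun g g' => by
        have h1 : (Fin.cons 1 (g * g') : Fin (m + 1) → L) =
            (Fin.cons 1 g : Fin (m + 1) → L) * (Fin.cons 1 g' : Fin (m + 1) → L) := by
          funext i
          refine Fin.cases ?_ (fun j => ?_) i
          · show (1 : L) = 1 * 1
            rw [mul_one]
          · rfl
        rw [h1, map_mul]
        rfl }
  have hφ : Function.Injective φ := by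
    intro g g' h
    have h1 : (Fin.cons 1 g : Fin (m + 1) → L) = Fin.cons 1 g' := e.symm.injective (Subtype.ext h)
    exact (Fin.cons_injective2 h1).2
  have h1 : Nat.card φ.range = Nat.card L ^ (m + 1 - 1) := by
    rw [Nat.card_congr (MonoidHom.ofInjective hφ).symm.toEquiv, Nat.card_pi, Finset.prod_const, Finset.card_univ,
      Fintype.card_fin, Nat.add_sub_cancel]
  rw [← h1]
  refine card_dvd_of_le ?_
  rintro _ ⟨g, rfl⟩
  rw [mem_centralizer_singleton_iff]
  show ((e.symm (Fin.cons 1 g : Fin (m + 1) → L) : M) : X) * (e.symm f : M) =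
    (e.symm f : M) * ((e.symm (Fin.cons 1 g : Fin (m + 1) → L) : M) : X)
  rw [← Subgroup.coe_mul, ← Subgroup.coe_mul, ← map_mul, ← map_mul]
  congr 2
  funext i
  refine Fin.cases ?_ (fun j => ?_) i
  · show (1 : L) * f 0 = f 0 * 1
    rw [one_mul, mul_one]
  · show g j * f j.succ = f j.succ * g j
    simp only [f, Function.update_of_ne (Fin.succ_ne_zero j), Pi.one_apply, one_mul, mul_one]

/-- Frattini: the order of the normalizer of a Sylow subgroup of a normal subgroup -/
theorem frattini_card {M : Subgroup X} [hM : M.Normal] {r : ℕ} [Fact r.Prime] (R : Sylow r M) :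
    Nat.card (normalizer (((R : Subgroup M).map M.subtype : Subgroup X) : Set X)) * Nat.card M =
      Nat.card X * Nat.card (normalizer (R : Set M)) := by
  set N : Subgroup X := normalizer (((R : Subgroup M).map M.subtype : Subgroup X) : Set X) with hN
  have hfr : N ⊔ M = ⊤ := Sylow.normalizer_sup_eq_top R
  have h1 : M.relIndex (N ⊔ M) = M.relIndex N := relIndex_sup_right N M
  rw [hfr, relIndex_top_right] at h1
  have h2 : Nat.card (M.subgroupOf N) * M.index = Nat.card N := by
    rw [h1]
    exact (M.subgroupOf N).card_mul_index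
  have h3 : Nat.card (M.subgroupOf N) = Nat.card (normalizer (R : Set M)) := by
    have h4 : Nat.card (M.subgroupOf N) = Nat.card (N.subgroupOf M) := by
      have h5 : Nat.card ((M.subgroupOf N).map N.subtype) = Nat.card (M.subgroupOf N) :=
        card_map_of_injective N.subtype_injective
      have h6 : Nat.card ((N.subgroupOf M).map M.subtype) = Nat.card (N.subgroupOf M) :=
        card_map_of_injective M.subtype_injective
      rw [subgroupOf_map_subtype] at h5 h6
      rw [← h5, ← h6, inf_comm]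
    rw [h4]
    congr 1
    have h7 := subgroupOf_normalizer_eq (H := (R : Subgroup M).map M.subtype) (N := M) (map_subtype_le _)
    rw [← hN] at h7
    rw [h7]
    have h8 : ((R : Subgroup M).map M.subtype).subgroupOf M = R :=
      comap_map_eq_self_of_injective M.subtype_injective _
    rw [h8]
    rfl
  rw [← h2, h3, ← M.card_mul_index]
  ring

omit [Finite X] in
theorem pow_dvd_of_mul {s v w x m : ℕ} (hs : s.Prime) (h : s ^ v ∣ x * m) (hm : ¬ s ^ (w + 1) ∣ m) :
    s ^ (v - w) ∣ x := by
  obtain ⟨a, b, ha, hb, hab⟩ := (Nat.dvd_mul).1 h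
  obtain ⟨i, -, rfl⟩ := (Nat.dvd_prime_pow hs).1 (Dvd.intro _ hab)
  obtain ⟨j, -, rfl⟩ := (Nat.dvd_prime_pow hs).1 (Dvd.intro_left _ hab)
  rw [← pow_add] at hab
  have h2 := Nat.pow_right_injective hs.two_le hab
  have h3 : j ≤ w := by
    by_contra hc
    exact hm ((pow_dvd_pow s (by omega)).trans hb)
  have h4 : i + j = v := h2
  exact (pow_dvd_pow s (by omega)).trans ha

/-- the action on a Sylow subgroup of a normal subgroup -/
theorem act_sylow {M : Subgroup X} [hM : M.Normal] {r s a v w c1 c2 : ℕ} (hr : r.Prime) (hs : s.Prime)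
    (h1 : CB r s c1 X) (h2 : CB s r c2 X) (ha : r ^ a ∣ Nat.card M) (ha' : ¬ r ^ (a + 1) ∣ Nat.card M)
    (hv : s ^ v ∣ Nat.card X) (hw : ¬ s ^ (w + 1) ∣ Nat.card M) : act r a s (v - w) c1 c2 = true := by
  have hF : Fact r.Prime := ⟨hr⟩
  obtain ⟨R⟩ : Nonempty (Sylow r M) := inferInstance
  have hR : Nat.card R = r ^ a := by
    obtain ⟨k, hk⟩ := IsPGroup.iff_card.1 R.2
    have hk' : Nat.card R = r ^ k := hk
    have h3 : r ^ k ∣ Nat.card M := hk' ▸ card_subgroup_dvd_card (R : Subgroup M)
    have h4 : r ^ a ∣ r ^ k := hk' ▸ R.pow_dvd_card_of_pow_dvd_card ha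
    have h5 : a ≤ k := (Nat.pow_dvd_pow_iff_le_right hr.one_lt).1 h4
    have h6 : k ≤ a := by
      by_contra hc
      exact ha' ((pow_dvd_pow r (by omega)).trans h3)
    rw [hk', le_antisymm h6 h5]
  have h3 := frattini_card (X := X) R
  have h4 : s ^ v ∣ Nat.card (normalizer (((R : Subgroup M).map M.subtype : Subgroup X) : Set X)) * Nat.card M := by
    rw [h3]
    exact hv.mul_right _
  refine act_of hr hs h1 h2 (R := (R : Subgroup M).map M.subtype) ?_ (pow_dvd_of_mul hs h4 hw) le_rfl
  rw [card_map_of_injective M.subtype_injective]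
  exact hR

/-- the order of a group with a normal subgroup containing a self-centralizing Sylow subgroup -/
theorem sc_normal {M : Subgroup X} [hM : M.Normal] {q : ℕ} (hq : q.Prime) (h : SC q X) (hqq : ¬ q ^ 2 ∣ Nat.card X)
    (hqM : q ∣ Nat.card M) : Nat.card X / q % q * Nat.card M = Nat.card X * (Nat.card M / q % q) := by
  have hF : Fact q.Prime := ⟨hq⟩
  have hqqM : ¬ q ^ 2 ∣ Nat.card M := fun h1 => hqq (h1.trans (card_subgroup_dvd_card M))
  obtain ⟨x, hx⟩ := exists_prime_orderOf_dvd_card' (G := M) q hqM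
  obtain ⟨R, hR⟩ := sylow_of_order hq hqqM hx
  have h1 := frattini_card (X := X) R
  have h2 : (R : Subgroup M).map M.subtype = zpowers (x : X) := by
    rw [hR, MonoidHom.map_zpowers]
    rfl
  have hR' : (R : Set M) = (zpowers x : Set M) := by rw [← hR]; rfl
  rw [h2, h.card_norm hq hqq (by rw [orderOf_coe, hx]), hR', (h.sub M).card_norm hq hqqM hx] at h1
  have h3 : q * (Nat.card X / q % q * Nat.card M) = q * (Nat.card X * (Nat.card M / q % q)) := by
    rw [← mul_assoc, h1]
    ring
  exact Nat.eq_of_mul_eq_mul_left hq.pos h3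

end minimal

end Cfsg.Agent.H537.Cop
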