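import Mathlib
import Cfsg.Agent.Classification.NormalCyclic
import Cfsg.Agent.Lib.FrattiniBasic
import Cfsg.Agent.Transfer.TausskyTwoGroup
import Cfsg.Agent.Solvable.UniqueOrderP

/-!
# `[Q : Φ(Q)]` for a 2-group `Q` acting faithfully on an abelian group of odd order

`Sq Q` is the subgroup generated by the squares.
-/

set_option autoImplicit false

namespace Cfsg.Agent.H537.FrattiniBound

universe u v

/-- The subgroup generated by the squares. -/
def Sq (Q : Type*) [Group Q] : Subgroup Q :=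
  Subgroup.normalClosure (Set.range fun g : Q => g ^ 2)

instance sq_normal (Q : Type*) [Group Q] : (Sq Q).Normal := by
  unfold Sq; infer_instance

theorem sq_mem {Q : Type*} [Group Q] (g : Q) : g ^ 2 ∈ Sq Q :=
  Subgroup.subset_normalClosure ⟨g, rfl⟩

theorem sq_le {Q : Type*} [Group Q] (N : Subgroup Q) [N.Normal] (h : ∀ g : Q, g ^ 2 ∈ N) :
    Sq Q ≤ N := by
  apply Subgroup.normalClosure_le_normal
  rintro _ ⟨g, rfl⟩
  exact h g

theorem index_sq_le {Q : Type*} [Group Q] [Finite Q] (K : Subgroup Q) [K.Normal] :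
    (Sq Q).index ≤ (Sq (Q ⧸ K)).index * (Sq K).index := by
  have h1 : (Sq (Q ⧸ K)) = (Sq Q).map (QuotientGroup.mk' K) := by
    apply le_antisymm
    · have : ((Sq Q).map (QuotientGroup.mk' K)).Normal :=
        Subgroup.Normal.map inferInstance _ (QuotientGroup.mk'_surjective K)
      apply sq_le
      intro g
      obtain ⟨g, rfl⟩ := QuotientGroup.mk'_surjective K g
      exact ⟨g ^ 2, sq_mem g, by rw [map_pow]⟩
    · rw [Subgroup.map_le_iff_le_comap]
      apply sq_le
      intro g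
      rw [Subgroup.mem_comap, map_pow]
      exact sq_mem _
  have h2 : (Sq (Q ⧸ K)).index = (Sq Q ⊔ K).index := by
    rw [h1, Subgroup.index_map, QuotientGroup.ker_mk', QuotientGroup.range_mk']
    simp
  have h3 : (Sq Q).index = (Sq Q).relIndex (Sq Q ⊔ K) * (Sq Q ⊔ K).index :=
    (Subgroup.relIndex_mul_index le_sup_left).symm
  have h4 : (Sq Q).relIndex (Sq Q ⊔ K) = (Sq Q).relIndex K := by
    rw [sup_comm, Subgroup.relIndex_sup_right]
  have h5 : (Sq Q).relIndex K ≤ (Sq K).index := by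
    have : Sq K ≤ (Sq Q).subgroupOf K := by
      apply sq_le
      intro g
      rw [Subgroup.mem_subgroupOf]
      exact sq_mem (g : Q)
    exact Nat.le_of_dvd (Nat.pos_of_ne_zero Subgroup.index_ne_zero_of_finite)
      (Subgroup.index_dvd_of_le this)
  rw [h3, h4, h2, mul_comm]
  exact Nat.mul_le_mul_left _ h5

theorem index_sq_le_card {Q : Type*} [Group Q] [Finite Q] : (Sq Q).index ≤ Nat.card Q :=
  Nat.le_of_dvd Nat.card_pos (Subgroup.index_dvd_card _)

theorem index_sq_cyclic {Q : Type*} [Group Q] [Finite Q] [IsCyclic Q] : (Sq Q).index ≤ 2 := by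
  obtain ⟨g, hg⟩ := IsCyclic.exists_generator (α := Q)
  have h1 : ∀ x : Q ⧸ Sq Q, x ∈ Subgroup.zpowers (QuotientGroup.mk' (Sq Q) g) := by
    intro x
    obtain ⟨x, rfl⟩ := QuotientGroup.mk'_surjective (Sq Q) x
    obtain ⟨k, rfl⟩ := hg x
    exact ⟨k, by simp⟩
  have h2 : (Sq Q).index = orderOf (QuotientGroup.mk' (Sq Q) g) := by
    rw [Subgroup.index, orderOf_eq_card_of_forall_mem_zpowers h1]
  rw [h2]
  apply Nat.le_of_dvd (by norm_num)
  apply orderOf_dvd_of_pow_eq_one
  rw [← map_pow]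
  exact (QuotientGroup.eq_one_iff _).2 (sq_mem g)

theorem index_sq_le_of_index_two {Q : Type*} [Group Q] [Finite Q] (H : Subgroup Q)
    (hH : H.index = 2) : (Sq Q).index ≤ 2 * (Sq H).index := by
  have hn : H.Normal := Subgroup.normal_of_index_eq_two hH
  refine (index_sq_le H).trans (Nat.mul_le_mul_right _ ?_)
  refine index_sq_le_card.trans ?_
  have : Nat.card (Q ⧸ H) = H.index := rfl
  omega

/-- Restriction of an action to an invariant subgroup. -/
def restr {A : Type u} [Group A] {Q : Type v} [Group Q] (φ : Q →* MulAut A) (B : Subgroup A)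
    (h : ∀ q, ∀ b ∈ B, φ q b ∈ B) : Q →* MulAut B where
  toFun q :=
    { toFun := fun b => ⟨φ q b, h q b b.2⟩
      invFun := fun b => ⟨φ q⁻¹ b, h q⁻¹ b b.2⟩
      left_inv := fun b => by
        apply Subtype.ext
        change φ q⁻¹ (φ q b) = b
        rw [← MulAut.mul_apply, ← map_mul, inv_mul_cancel, map_one, MulAut.one_apply]
      right_inv := fun b => by
        apply Subtype.ext
        change φ q (φ q⁻¹ b) = b
        rw [← MulAut.mul_apply, ← map_mul, mul_inv_cancel, map_one, MulAut.one_apply]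
      map_mul' := fun a b => by
        apply Subtype.ext
        exact map_mul (φ q) (a : A) b }
  map_one' := by
    ext b
    change φ 1 (b : A) = b
    rw [map_one, MulAut.one_apply]
  map_mul' a b := by
    ext c
    change φ (a * b) (c : A) = φ a (φ b c)
    rw [map_mul, MulAut.mul_apply]

@[simp] theorem restr_apply {A : Type u} [Group A] {Q : Type v} [Group Q] (φ : Q →* MulAut A)
    (B : Subgroup A) (h : ∀ q, ∀ b ∈ B, φ q b ∈ B) (q : Q) (b : B) :
    ((restr φ B h q b : B) : A) = φ q b := rfl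

/-- The bound. -/
def Bd (n i : ℕ) : Prop := (n = 1 ∧ i ≤ 1) ∨ (n = 3 ∧ i ≤ 2) ∨ (5 ≤ n ∧ 2 * i ≤ n)

theorem Bd.mono {n i j : ℕ} (h : Bd n i) (hj : j ≤ i) : Bd n j := by
  rcases h with ⟨h1, h2⟩ | ⟨h1, h2⟩ | ⟨h1, h2⟩
  · exact Or.inl ⟨h1, by omega⟩
  · exact Or.inr (Or.inl ⟨h1, by omega⟩)
  · exact Or.inr (Or.inr ⟨h1, by omega⟩)

theorem Bd.mul {n m i j : ℕ} (h : Bd n i) (h' : Bd m j) : Bd (n * m) (i * j) := by
  rcases h with ⟨h1, h2⟩ | ⟨h1, h2⟩ | ⟨h1, h2⟩
  · subst h1
    rw [one_mul]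
    exact h'.mono (by nlinarith)
  · subst h1
    rcases h' with ⟨h3, h4⟩ | ⟨h3, h4⟩ | ⟨h3, h4⟩
    · subst h3
      refine Bd.mono (i := 2) (Or.inr (Or.inl ⟨by norm_num, le_rfl⟩)) (by nlinarith)
    · subst h3
      exact Or.inr (Or.inr ⟨by norm_num, by nlinarith⟩)
    · exact Or.inr (Or.inr ⟨by omega, by nlinarith⟩)
  · rcases h' with ⟨h3, h4⟩ | ⟨h3, h4⟩ | ⟨h3, h4⟩
    · subst h3
      exact Or.inr (Or.inr ⟨by omega, by nlinarith⟩)
    · subst h3
      exact Or.inr (Or.inr ⟨by omega, by nlinarith⟩)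
    · exact Or.inr (Or.inr ⟨by nlinarith, by nlinarith⟩)

/-- The kernel of the action on `A₁`, and the two faithful actions. -/
theorem decomp {A : Type u} [CommGroup A] {Q : Type v} [Group Q]
    (φ : Q →* MulAut A) (hφ : Function.Injective φ) (A₁ A₂ : Subgroup A)
    (h₁ : ∀ q, ∀ b ∈ A₁, φ q b ∈ A₁) (h₂ : ∀ q, ∀ b ∈ A₂, φ q b ∈ A₂) (hsup : A₁ ⊔ A₂ = ⊤) :
    ∃ (K : Subgroup Q) (_ : K.Normal) (φ₁ : Q ⧸ K →* MulAut A₁) (φ₂ : K →* MulAut A₂),
      Function.Injective φ₁ ∧ Function.Injective φ₂ := by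
  refine ⟨(restr φ A₁ h₁).ker, inferInstance, QuotientGroup.kerLift _,
    (restr φ A₂ h₂).comp (Subgroup.subtype _), QuotientGroup.kerLift_injective _, ?_⟩
  rw [injective_iff_map_eq_one]
  rintro ⟨k, hk⟩ hk2
  rw [MonoidHom.mem_ker] at hk
  have e1 : ∀ a ∈ A₁, φ k a = a := by
    intro a ha
    have := congrArg (fun f : MulAut A₁ => ((f ⟨a, ha⟩ : A₁) : A)) hk
    simpa using this
  have e2 : ∀ a ∈ A₂, φ k a = a := by
    intro a ha
    have := congrArg (fun f : MulAut A₂ => ((f ⟨a, ha⟩ : A₂) : A)) hk2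
    simpa using this
  apply Subtype.ext
  apply hφ
  rw [Subgroup.coe_one, map_one]
  ext a
  rw [MulAut.one_apply]
  have ha : a ∈ A₁ ⊔ A₂ := by rw [hsup]; exact Subgroup.mem_top a
  obtain ⟨b, hb, c, hc, rfl⟩ := Subgroup.mem_sup.1 ha
  rw [map_mul]
  change φ k b * φ k c = b * c
  rw [e1 b hb, e2 c hc]

/-- Fixed points of an automorphism. -/
def fixp {A : Type u} [CommGroup A] (s : MulAut A) : Subgroup A where
  carrier := {a | s a = a}
  one_mem' := map_one s
  mul_mem' := fun {a b} ha hb => by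
    change s (a * b) = a * b
    rw [map_mul, ha, hb]
  inv_mem' := fun {a} ha => by
    change s a⁻¹ = a⁻¹
    rw [map_inv, ha]

/-- Inverted elements. -/
def invp {A : Type u} [CommGroup A] (s : MulAut A) : Subgroup A where
  carrier := {a | s a = a⁻¹}
  one_mem' := by
    change s 1 = 1⁻¹
    rw [map_one, inv_one]
  mul_mem' := fun {a b} ha hb => by
    change s (a * b) = (a * b)⁻¹
    rw [map_mul, ha, hb, mul_inv]
  inv_mem' := fun {a} ha => by
    change s a⁻¹ = a⁻¹⁻¹
    rw [map_inv, ha]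

theorem mem_fixp {A : Type u} [CommGroup A] {s : MulAut A} {a : A} : a ∈ fixp s ↔ s a = a :=
  Iff.rfl

theorem mem_invp {A : Type u} [CommGroup A] {s : MulAut A} {a : A} : a ∈ invp s ↔ s a = a⁻¹ :=
  Iff.rfl

theorem eq_one_of_sq {A : Type u} [CommGroup A] [Finite A] (hodd : Odd (Nat.card A)) {a : A}
    (h : a ^ 2 = 1) : a = 1 := by
  have h1 : orderOf a ∣ 2 := orderOf_dvd_of_pow_eq_one h
  have h2 : orderOf a ∣ Nat.card A := orderOf_dvd_natCard a
  have h3 : Nat.Coprime 2 (Nat.card A) := Nat.coprime_two_left.2 hodd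
  have := Nat.Coprime.eq_one_of_dvd (Nat.Coprime.coprime_dvd_left h1 h3) h2
  exact orderOf_eq_one_iff.1 this

theorem fixp_inf_invp {A : Type u} [CommGroup A] [Finite A] (hodd : Odd (Nat.card A))
    (s : MulAut A) : fixp s ⊓ invp s = ⊥ := by
  rw [eq_bot_iff]
  rintro a ⟨h1, h2⟩
  rw [Subgroup.mem_bot]
  apply eq_one_of_sq hodd
  have h1' := mem_fixp.1 h1
  have h2' := mem_invp.1 h2
  rw [h1'] at h2'
  rw [pow_two]
  nth_rewrite 1 [h2']
  exact inv_mul_cancel a

theorem fixp_sup_invp {A : Type u} [CommGroup A] [Finite A] (hodd : Odd (Nat.card A))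
    (s : MulAut A) (hs : s * s = 1) : fixp s ⊔ invp s = ⊤ := by
  rw [eq_top_iff]
  intro a _
  -- square roots exist
  have hss : ∀ x, s (s x) = x := fun x => by
    rw [← MulAut.mul_apply, hs, MulAut.one_apply]
  obtain ⟨k, hk⟩ := hodd
  -- b = a^(k+1) satisfies b^2 = a
  set b := a ^ (k + 1) with hb
  have hb2 : b * b = a := by
    rw [hb, ← pow_add]
    have : k + 1 + (k + 1) = Nat.card A + 1 := by omega
    rw [this, pow_add, pow_card_eq_one', one_mul, pow_one]
  have h1 : b * s b ∈ fixp s := by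
    rw [mem_fixp, map_mul, hss, mul_comm]
  have h2 : b * (s b)⁻¹ ∈ invp s := by
    rw [mem_invp, map_mul, map_inv, hss, mul_inv, inv_inv, mul_comm]
  have h3 : a = (b * s b) * (b * (s b)⁻¹) := by
    rw [← hb2]
    rw [show b * s b * (b * (s b)⁻¹) = (b * b) * (s b * (s b)⁻¹) from mul_mul_mul_comm _ _ _ _,
      mul_inv_cancel, mul_one]
  rw [h3]
  exact Subgroup.mul_mem_sup h1 h2

theorem card_of_inf_sup {A : Type u} [CommGroup A] [Finite A] (A₁ A₂ : Subgroup A)
    (h1 : A₁ ⊓ A₂ = ⊥) (h2 : A₁ ⊔ A₂ = ⊤) : Nat.card A = Nat.card A₁ * Nat.card A₂ := by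
  have h : Subgroup.IsComplement' A₁ A₂ := by
    apply Subgroup.isComplement'_of_disjoint_and_mul_eq_univ
    · exact disjoint_iff.2 h1
    · rw [← Subgroup.normal_mul, h2]; rfl
  exact h.card_mul_card.symm

/-- An abelian 2-group with at most one involution is cyclic. -/
theorem cyclic_of_unique {V : Type*} [Group V] [Finite V] (hV : IsPGroup 2 V)
    (hVa : IsMulCommutative V) (z : V)
    (h : ∀ x : V, x * x = 1 → x = 1 ∨ x = z) : IsCyclic V := by
  have hU : Cfsg.Agent.Solvable.UniqueOrderP.UniqueP 2 V := by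
    intro x y hx1 hx hy
    rw [pow_two] at hx hy
    rcases h x hx with h1 | h1
    · exact absurd h1 hx1
    · rcases h y hy with h2 | h2
      · rw [h2]; exact Subgroup.one_mem _
      · rw [h1, h2]; exact Subgroup.mem_zpowers z
  rcases Cfsg.Agent.Solvable.UniqueOrderP.cyclic_or_quaternion hV hU with h1 | ⟨-, m, hm, ⟨e⟩⟩
  · exact h1
  · exfalso
    have hc : (QuaternionGroup.a 1 : QuaternionGroup (2 ^ m)) * QuaternionGroup.xa 0 =
        QuaternionGroup.xa 0 * QuaternionGroup.a 1 := by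
      apply e.symm.injective
      rw [map_mul, map_mul]
      exact hVa.is_comm.comm _ _
    rw [QuaternionGroup.a_mul_xa, QuaternionGroup.xa_mul_a] at hc
    have h2 : (0 : ZMod (2 * 2 ^ m)) - 1 = 0 + 1 := by
      simpa using hc
    have h3 : ((2 : ℕ) : ZMod (2 * 2 ^ m)) = 0 := by
      have : (2 : ZMod (2 * 2 ^ m)) = (0 + 1) - (0 - 1) := by ring
      rw [h2] at this
      push_cast
      rw [this, sub_self]
    rw [ZMod.natCast_eq_zero_iff] at h3
    have h4 := Nat.le_of_dvd (by norm_num) h3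
    have h5 : 2 ≤ 2 ^ m := by
      calc 2 = 2 ^ 1 := (pow_one 2).symm
        _ ≤ 2 ^ m := Nat.pow_le_pow_right (by norm_num) (by omega)
    omega

/-- A noncyclic normal abelian subgroup of a 2-group gives a central involution `z` and an
involution `u` all of whose conjugates are `u` or `z * u`. -/
theorem exists_z_u {Q : Type v} [Group Q] [Finite Q] (hQ : IsPGroup 2 Q) (V : Subgroup Q)
    (hV : V.Normal) (hVa : IsMulCommutative V) (hVc : ¬ IsCyclic V) :
    ∃ z u : Q, z * z = 1 ∧ z ≠ 1 ∧ (∀ g : Q, g * z = z * g) ∧ u * u = 1 ∧ u ≠ 1 ∧ u ≠ z ∧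
      (∀ g : Q, g * u * g⁻¹ = u ∨ g * u * g⁻¹ = z * u) := by
  classical
  have hcomm : ∀ x ∈ V, ∀ y ∈ V, x * y = y * x := fun x hx y hy =>
    congrArg Subtype.val (hVa.is_comm.comm (⟨x, hx⟩ : V) ⟨y, hy⟩)
  let Ω : Subgroup Q :=
    { carrier := {x | x ∈ V ∧ x * x = 1}
      one_mem' := ⟨V.one_mem, one_mul 1⟩
      mul_mem' := by
        rintro x y ⟨hx, hx2⟩ ⟨hy, hy2⟩
        refine ⟨V.mul_mem hx hy, ?_⟩
        calc x * y * (x * y) = x * (y * x) * y := by group
          _ = x * (x * y) * y := by rw [hcomm x hx y hy]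
          _ = (x * x) * (y * y) := by group
          _ = 1 := by rw [hx2, hy2, one_mul]
      inv_mem' := by
        rintro x ⟨hx, hx2⟩
        refine ⟨V.inv_mem hx, ?_⟩
        rw [← mul_inv_rev, hx2, inv_one] }
  have hΩ : ∀ x, x ∈ Ω ↔ x ∈ V ∧ x * x = 1 := fun x => Iff.rfl
  have hΩn : Ω.Normal := by
    refine ⟨?_⟩
    rintro x ⟨hx, hx2⟩ g
    refine ⟨hV.conj_mem x hx g, ?_⟩
    calc g * x * g⁻¹ * (g * x * g⁻¹) = g * (x * x) * g⁻¹ := by group
      _ = 1 := by rw [hx2]; group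
  have hΩ1 : Ω ≠ ⊥ := by
    intro h
    apply hVc
    apply cyclic_of_unique (hQ.to_subgroup V) hVa 1
    intro x hx
    left
    have : (x : Q) ∈ Ω := ⟨x.2, by simpa using congrArg Subtype.val hx⟩
    rw [h, Subgroup.mem_bot] at this
    exact Subtype.ext this
  obtain ⟨z, hzΩ, hzc, hz1⟩ :=
    Cfsg.Agent.Transfer.TausskyTwoGroup.exists_ne_one_mem_inf_center hQ Ω hΩ1
  have hz2 : z * z = 1 := hzΩ.2
  have hzc' : ∀ g : Q, g * z = z * g := fun g => Subgroup.mem_center_iff.1 hzc g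
  have hZn : (Subgroup.zpowers z).Normal := by
    apply Cfsg.Agent.Transfer.TausskyTwoGroup.normal_of_le_center
    rw [Subgroup.zpowers_le]
    exact hzc
  have hZmem : ∀ x, x ∈ Subgroup.zpowers z ↔ x = 1 ∨ x = z := by
    intro x
    constructor
    · rintro ⟨k, rfl⟩
      rcases Int.even_or_odd k with ⟨t, rfl⟩ | ⟨t, rfl⟩
      · left
        change z ^ (t + t) = 1
        rw [← two_mul, zpow_mul, zpow_two, hz2, one_zpow]
      · right
        change z ^ (2 * t + 1) = z
        rw [zpow_add, zpow_mul, zpow_two, hz2, one_zpow, one_mul, zpow_one]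
    · rintro (rfl | rfl)
      · exact Subgroup.one_mem _
      · exact Subgroup.mem_zpowers _
  have hmapn : (Ω.map (QuotientGroup.mk' (Subgroup.zpowers z))).Normal :=
    hΩn.map _ (QuotientGroup.mk'_surjective _)
  have hmap1 : Ω.map (QuotientGroup.mk' (Subgroup.zpowers z)) ≠ ⊥ := by
    intro h
    rw [Subgroup.map_eq_bot_iff, QuotientGroup.ker_mk'] at h
    apply hVc
    apply cyclic_of_unique (hQ.to_subgroup V) hVa ⟨z, hzΩ.1⟩
    intro x hx
    have h1 : (x : Q) ∈ Ω := ⟨x.2, by simpa using congrArg Subtype.val hx⟩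
    rcases (hZmem _).1 (h h1) with h2 | h2
    · exact Or.inl (Subtype.ext h2)
    · exact Or.inr (Subtype.ext h2)
  obtain ⟨w, ⟨u, huΩ, rfl⟩, hwc, hw1⟩ :=
    Cfsg.Agent.Transfer.TausskyTwoGroup.exists_ne_one_mem_inf_center
      (hQ.to_quotient (Subgroup.zpowers z)) (Ω.map (QuotientGroup.mk' (Subgroup.zpowers z))) hmap1
  have huZ : u ∉ Subgroup.zpowers z := fun h => hw1 ((QuotientGroup.eq_one_iff u).2 h)
  refine ⟨z, u, hz2, hz1, hzc', huΩ.2, ?_, ?_, ?_⟩
  · rintro rfl; exact huZ (Subgroup.one_mem _)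
  · rintro rfl; exact huZ (Subgroup.mem_zpowers _)
  · intro g
    have h1 := Subgroup.mem_center_iff.1 hwc (QuotientGroup.mk' _ g)
    have h2 : g * u * g⁻¹ * u⁻¹ ∈ Subgroup.zpowers z := by
      rw [← QuotientGroup.eq_one_iff]
      change QuotientGroup.mk' (Subgroup.zpowers z) (g * u * g⁻¹ * u⁻¹) = 1
      rw [map_mul, map_mul, map_mul, h1, map_inv, map_inv]
      group
    rcases (hZmem _).1 h2 with h3 | h3
    · left
      exact mul_inv_eq_one.1 h3
    · right
      exact mul_inv_eq_iff_eq_mul.1 h3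

theorem card_mul_quot {Q : Type*} [Group Q] [Finite Q] (K : Subgroup Q) :
    Nat.card Q = Nat.card (Q ⧸ K) * Nat.card K :=
  Subgroup.card_eq_card_quotient_mul_card_subgroup K

/-- the induction hypothesis -/
def IH (A : Type u) [CommGroup A] : Prop :=
  ∀ (B : Subgroup A), Nat.card B < Nat.card A → Odd (Nat.card B) →
    ∀ (R : Type v) [Group R] [Finite R] (ψ : R →* MulAut B), IsPGroup 2 R →
      Function.Injective ψ → Bd (Nat.card B) (Sq R).index

theorem of_decomp {A : Type u} [CommGroup A] [Finite A] (ih : IH.{u, v} A)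
    (hodd : Odd (Nat.card A)) {Q : Type v} [Group Q] [Finite Q] (hQ : IsPGroup 2 Q)
    (φ : Q →* MulAut A) (hφ : Function.Injective φ) (A₁ A₂ : Subgroup A)
    (h₁ : ∀ q, ∀ b ∈ A₁, φ q b ∈ A₁) (h₂ : ∀ q, ∀ b ∈ A₂, φ q b ∈ A₂)
    (hinf : A₁ ⊓ A₂ = ⊥) (hsup : A₁ ⊔ A₂ = ⊤) (hb₁ : A₁ ≠ ⊥) (hb₂ : A₂ ≠ ⊥) :
    ∃ i j, Bd (Nat.card A₁) i ∧ Bd (Nat.card A₂) j ∧ (Sq Q).index ≤ i * j := by
  have hcard := card_of_inf_sup A₁ A₂ hinf hsup
  have hc1 : 1 < Nat.card A₁ := by
    have h1 : Nat.card A₁ ≠ 1 := fun h => hb₁ (Subgroup.card_eq_one.1 h)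
    have h2 : 0 < Nat.card A₁ := Nat.card_pos
    omega
  have hc2 : 1 < Nat.card A₂ := by
    have h1 : Nat.card A₂ ≠ 1 := fun h => hb₂ (Subgroup.card_eq_one.1 h)
    have h2 : 0 < Nat.card A₂ := Nat.card_pos
    omega
  rw [hcard, Nat.odd_mul] at hodd
  obtain ⟨K, hK, φ₁, φ₂, hi₁, hi₂⟩ := decomp φ hφ A₁ A₂ h₁ h₂ hsup
  refine ⟨(Sq (Q ⧸ K)).index, (Sq K).index, ?_, ?_, index_sq_le K⟩
  · exact ih A₁ (by nlinarith) hodd.1 (Q ⧸ K) φ₁ (hQ.to_quotient K) hi₁
  · exact ih A₂ (by nlinarith) hodd.2 K φ₂ (hQ.to_subgroup K) hi₂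

theorem of_decomp' {A : Type u} [CommGroup A] [Finite A] (ih : IH.{u, v} A)
    (hodd : Odd (Nat.card A)) {Q : Type v} [Group Q] [Finite Q] (hQ : IsPGroup 2 Q)
    (φ : Q →* MulAut A) (hφ : Function.Injective φ) (A₁ A₂ : Subgroup A)
    (h₁ : ∀ q, ∀ b ∈ A₁, φ q b ∈ A₁) (h₂ : ∀ q, ∀ b ∈ A₂, φ q b ∈ A₂)
    (hinf : A₁ ⊓ A₂ = ⊥) (hsup : A₁ ⊔ A₂ = ⊤) (hb₁ : A₁ ≠ ⊥) (hb₂ : A₂ ≠ ⊥) :
    Bd (Nat.card A) (Sq Q).index := by
  obtain ⟨i, j, hi, hj, hle⟩ := of_decomp ih hodd hQ φ hφ A₁ A₂ h₁ h₂ hinf hsup hb₁ hb₂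
  rw [card_of_inf_sup A₁ A₂ hinf hsup]
  exact (hi.mul hj).mono hle

theorem card_mulAut_three {B : Type*} [Group B] (h : Nat.card B = 3) : Nat.card (MulAut B) = 2 := by
  have : Fact (Nat.Prime 3) := ⟨by norm_num⟩
  have hc : IsCyclic B := isCyclic_of_prime_card (p := 3) h
  have : Finite B := Nat.finite_of_card_ne_zero (by omega)
  rw [IsCyclic.card_mulAut, h]
  decide

theorem card_le_of_inj {B : Type*} [Group B] (h : Nat.card B = 3) {R : Type*} [Group R]
    (ψ : R →* MulAut B) (hψ : Function.Injective ψ) : Nat.card R ≤ 2 := by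
  have : Finite B := Nat.finite_of_card_ne_zero (by omega)
  have h1 : Nat.card (MulAut B) = 2 := card_mulAut_three h
  have : Finite (MulAut B) := Nat.finite_of_card_ne_zero (by omega)
  rw [← h1]
  exact Nat.card_le_card_of_injective ψ hψ

/-- The main bound. -/
theorem main (n : ℕ) : ∀ (A : Type u) [CommGroup A] [Finite A] (Q : Type v) [Group Q] [Finite Q]
    (φ : Q →* MulAut A), Nat.card A = n → Odd n → IsPGroup 2 Q → Function.Injective φ →
    Bd n (Sq Q).index := by
  induction n using Nat.strong_induction_on with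
  | _ n IHn =>
  intro A _ _ Q _ _ φ hn hodd hQ hφ
  have ih : IH.{u, v} A := by
    intro B hB hBo R _ _ ψ hR hψ
    exact IHn (Nat.card B) (by omega) B R ψ rfl hBo hR hψ
  -- n = 1
  rcases Nat.lt_or_ge n 2 with hn1 | hn2
  · have hn' : n = 1 := by
      rcases hodd with ⟨k, hk⟩; omega
    left
    refine ⟨hn', ?_⟩
    have hs : Subsingleton A := (Nat.card_eq_one_iff_unique.1 (by omega)).1
    have hs' : Subsingleton Q := by
      refine ⟨fun a b => hφ ?_⟩
      ext x
      exact Subsingleton.elim _ _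
    have := index_sq_le_card (Q := Q)
    rw [Nat.card_eq_one_iff_unique.2 ⟨hs', ⟨1⟩⟩] at this
    exact this
  -- small index suffices
  have hn3 : 3 ≤ n := by
    rcases hodd with ⟨k, hk⟩; omega
  have small : (Sq Q).index ≤ 2 → Bd n (Sq Q).index := by
    intro h
    rcases hodd with ⟨k, hk⟩
    rcases Nat.lt_or_ge n 5 with h5 | h5
    · exact Or.inr (Or.inl ⟨by omega, h⟩)
    · exact Or.inr (Or.inr ⟨h5, by omega⟩)
  -- prime order
  by_cases hprime : n.Prime
  · apply small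
    have : Fact n.Prime := ⟨hprime⟩
    have hc : IsCyclic A := isCyclic_of_prime_card hn
    have hc2 : IsCyclic (MulAut A) := by
      have e := IsCyclic.mulAutMulEquiv A
      rw [hn] at e
      exact isCyclic_of_injective e.toMonoidHom e.injective
    have hc3 : IsCyclic Q := isCyclic_of_injective φ hφ
    exact index_sq_cyclic
  have hn9 : 9 ≤ n := by
    by_contra hlt
    push Not at hlt
    interval_cases n <;> first | (exact absurd hodd (by decide)) | (exact hprime (by norm_num))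
  have small' : (Sq Q).index ≤ 4 → Bd n (Sq Q).index := fun h => Or.inr (Or.inr ⟨by omega, by omega⟩)
  -- all normal abelian subgroups cyclic
  by_cases hcyc : ∀ V : Subgroup Q, V.Normal → IsMulCommutative V → IsCyclic V
  · apply small'
    rcases Cfsg.Agent.Classification.NormalCyclic.exists_cyclic_index_two hQ hcyc with h | ⟨H, hH, hH2⟩
    · have := index_sq_cyclic (Q := Q)
      omega
    · have h1 := index_sq_le_of_index_two H hH2
      have h2 := index_sq_cyclic (Q := H)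
      omega
  push Not at hcyc
  obtain ⟨V, hV, hVa, hVc⟩ := hcyc
  obtain ⟨z, u, hz2, hz1, hzc, hu2, hu1, huz, hconj⟩ := exists_z_u hQ V hV hVa hVc
  have hoddA : Odd (Nat.card A) := by rw [hn]; exact hodd
  rw [← hn]
  have hinj : ∀ {a b : Q}, φ a = φ b → a = b := fun h => hφ h
  have hφz2 : φ z * φ z = 1 := by rw [← map_mul, hz2, map_one]
  have hφu2 : φ u * φ u = 1 := by rw [← map_mul, hu2, map_one]
  -- inversion subgroups are nontrivial
  have hinvne : ∀ s : Q, s * s = 1 → s ≠ 1 → invp (φ s) ≠ ⊥ := by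
    intro s hs2 hs1 hbot
    apply hs1
    apply hinj
    rw [map_one]
    ext a
    rw [MulAut.one_apply]
    have h1 := fixp_sup_invp hoddA (φ s) (by rw [← map_mul, hs2, map_one])
    rw [hbot, sup_bot_eq] at h1
    have : a ∈ fixp (φ s) := by rw [h1]; exact Subgroup.mem_top a
    exact mem_fixp.1 this
  -- invariance under commuting elements
  have hfixinv : ∀ s q : Q, q * s = s * q → ∀ a ∈ fixp (φ s), φ q a ∈ fixp (φ s) := by
    intro s q hsq a ha
    rw [mem_fixp] at ha ⊢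
    rw [← MulAut.mul_apply, ← map_mul, ← hsq, map_mul, MulAut.mul_apply, ha]
  have hinvinv : ∀ s q : Q, q * s = s * q → ∀ a ∈ invp (φ s), φ q a ∈ invp (φ s) := by
    intro s q hsq a ha
    rw [mem_invp] at ha ⊢
    rw [← MulAut.mul_apply, ← map_mul, ← hsq, map_mul, MulAut.mul_apply, ha, map_inv]
  by_cases hzfix : fixp (φ z) = ⊥
  swap
  · exact of_decomp' ih hoddA hQ φ hφ (fixp (φ z)) (invp (φ z))
      (fun q b hb => hfixinv z q (hzc q) b hb) (fun q b hb => hinvinv z q (hzc q) b hb)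
      (fixp_inf_invp hoddA _) (fixp_sup_invp hoddA _ hφz2) hzfix (hinvne z hz2 hz1)
  have hzinv : ∀ a, φ z a = a⁻¹ := by
    intro a
    have h1 := fixp_sup_invp hoddA (φ z) hφz2
    rw [hzfix, bot_sup_eq] at h1
    have : a ∈ invp (φ z) := by rw [h1]; exact Subgroup.mem_top a
    exact mem_invp.1 this
  -- both eigenspaces of `u` are nontrivial
  have hufix : fixp (φ u) ≠ ⊥ := by
    intro hbot
    apply huz
    apply hinj
    ext a
    rw [hzinv]
    have h1 := fixp_sup_invp hoddA (φ u) hφu2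
    rw [hbot, bot_sup_eq] at h1
    have : a ∈ invp (φ u) := by rw [h1]; exact Subgroup.mem_top a
    exact mem_invp.1 this
  have huinv := hinvne u hu2 hu1
  by_cases hucen : ∀ g : Q, g * u = u * g
  · exact of_decomp' ih hoddA hQ φ hφ (fixp (φ u)) (invp (φ u))
      (fun q b hb => hfixinv u q (hucen q) b hb) (fun q b hb => hinvinv u q (hucen q) b hb)
      (fixp_inf_invp hoddA _) (fixp_sup_invp hoddA _ hφu2) hufix huinv
  push Not at hucen
  obtain ⟨g₀, hg₀⟩ := hucen
  have hg₀' : g₀ * u * g₀⁻¹ = z * u := by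
    rcases hconj g₀ with h | h
    · exact absurd (mul_inv_eq_iff_eq_mul.1 h) hg₀
    · exact h
  let H : Subgroup Q := Subgroup.centralizer {u}
  have hHmem : ∀ g, g ∈ H ↔ g * u = u * g := fun g => Subgroup.mem_centralizer_singleton_iff
  have hH2 : H.index = 2 := by
    rw [Subgroup.index_eq_two_iff]
    refine ⟨g₀, fun b => ?_⟩
    have key : b * g₀ ∈ H ↔ b ∉ H := by
      rw [hHmem, hHmem]
      have e1 : b * g₀ * u = b * (z * u) * g₀ := by
        rw [← hg₀']; group
      rw [e1]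
      constructor
      · intro h hb
        have : b * (z * u) = u * b := by
          have := congrArg (fun x => x * g₀⁻¹) h
          simpa [mul_assoc] using this
        rw [← mul_assoc, hzc b, mul_assoc, hb] at this
        apply hz1
        have := congrArg (fun x => x * (u * b)⁻¹) this
        simpa [mul_assoc] using this
      · intro hb
        have h1 : b * u * b⁻¹ = z * u := by
          rcases hconj b with h | h
          · exact absurd (mul_inv_eq_iff_eq_mul.1 h) hb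
          · exact h
        have h2 : b * u = z * u * b := by rw [← h1]; group
        have h3 : b * (z * u) = u * b := by
          rw [← mul_assoc, hzc b, mul_assoc, h2, ← mul_assoc, ← mul_assoc, hz2, one_mul]
        rw [h3, mul_assoc]
    rw [key]
    exact (xor_not_left.2 Iff.rfl)
  -- g₀ swaps the eigenspaces
  have hcardeq : Nat.card (fixp (φ u)) = Nat.card (invp (φ u)) := by
    have h1 : (fixp (φ u)).map (φ g₀).toMonoidHom = invp (φ u) := by
      have hcomm : φ u * φ g₀ = φ g₀ * φ u * φ z := by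
        rw [← map_mul, ← map_mul, ← map_mul]
        congr 1
        have h0 : g₀ * u = z * u * g₀ := by rw [← hg₀']; group
        symm
        calc g₀ * u * z = z * (g₀ * u) := hzc _
          _ = z * (z * u * g₀) := by rw [h0]
          _ = (z * z) * (u * g₀) := by group
          _ = u * g₀ := by rw [hz2, one_mul]
      ext a
      constructor
      · rintro ⟨b, hb, rfl⟩
        have hb' : φ u b = b := hb
        rw [mem_invp]
        change φ u (φ g₀ b) = (φ g₀ b)⁻¹
        rw [← MulAut.mul_apply, hcomm, MulAut.mul_apply, MulAut.mul_apply, hzinv, map_inv, map_inv,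
          hb']
      · intro ha
        have ha' : φ u a = a⁻¹ := ha
        refine ⟨φ g₀⁻¹ a, ?_, ?_⟩
        · change φ u (φ g₀⁻¹ a) = φ g₀⁻¹ a
          apply (φ g₀).injective
          have e1 : φ g₀ (φ g₀⁻¹ a) = a := by
            rw [← MulAut.mul_apply, ← map_mul, mul_inv_cancel, map_one, MulAut.one_apply]
          have e2 : φ g₀ * φ u = φ u * φ g₀ * φ z := by
            rw [hcomm, mul_assoc _ (φ z), hφz2, mul_one]
          rw [e1]
          rw [← MulAut.mul_apply, e2, MulAut.mul_apply, MulAut.mul_apply, hzinv, map_inv, map_inv,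
            e1, ha', inv_inv]
        · change φ g₀ (φ g₀⁻¹ a) = a
          rw [← MulAut.mul_apply, ← map_mul, mul_inv_cancel, map_one, MulAut.one_apply]
    rw [← h1]
    exact (Subgroup.card_map_of_injective (φ g₀).injective).symm
  have hcard := card_of_inf_sup _ _ (fixp_inf_invp hoddA (φ u)) (fixp_sup_invp hoddA (φ u) hφu2)
  rw [← hcardeq] at hcard
  -- action of H
  have hφH : Function.Injective (φ.comp H.subtype) := hφ.comp H.subtype_injective
  have hf' : ∀ q : H, ∀ b ∈ fixp (φ u), (φ.comp H.subtype) q b ∈ fixp (φ u) := fun q b hb =>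
    hfixinv u q ((hHmem q).1 q.2) b hb
  have hi' : ∀ q : H, ∀ b ∈ invp (φ u), (φ.comp H.subtype) q b ∈ invp (φ u) := fun q b hb =>
    hinvinv u q ((hHmem q).1 q.2) b hb
  have hle := index_sq_le_of_index_two H hH2
  obtain ⟨i, j, hi, hj, hij⟩ := of_decomp ih hoddA (hQ.to_subgroup H) (φ.comp H.subtype) hφH
    (fixp (φ u)) (invp (φ u)) hf' hi' (fixp_inf_invp hoddA _) (fixp_sup_invp hoddA _ hφu2) hufix
    huinv
  rw [← hcardeq] at hj
  by_cases hw : 5 ≤ Nat.card (fixp (φ u))
  · rcases hi with ⟨h1, h2⟩ | ⟨h1, h2⟩ | ⟨h1, h2⟩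
    · omega
    · omega
    rcases hj with ⟨h3, h4⟩ | ⟨h3, h4⟩ | ⟨h3, h4⟩
    · omega
    · omega
    refine Or.inr (Or.inr ⟨by omega, ?_⟩)
    rw [hcard]
    have h5 : (2 * i) * (2 * j) ≤ Nat.card (fixp (φ u)) * Nat.card (fixp (φ u)) :=
      Nat.mul_le_mul h2 h4
    nlinarith
  · -- card 3
    have hw3 : Nat.card (fixp (φ u)) = 3 := by
      have h1 : Odd (Nat.card (fixp (φ u))) := by
        rw [hcard] at hoddA
        exact (Nat.odd_mul.1 hoddA).1
      have h2 : Nat.card (fixp (φ u)) ≠ 1 := fun h => hufix (Subgroup.card_eq_one.1 h)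
      rcases h1 with ⟨k, hk⟩
      omega
    have hHcard : Nat.card H ≤ 4 := by
      obtain ⟨K, hK, φ₁, φ₂, hi₁, hi₂⟩ := decomp (φ.comp H.subtype) hφH (fixp (φ u)) (invp (φ u))
        hf' hi' (fixp_sup_invp hoddA _ hφu2)
      have h1 := card_le_of_inj hw3 φ₁ hi₁
      have h2 := card_le_of_inj (hcardeq ▸ hw3) φ₂ hi₂
      rw [card_mul_quot K]
      nlinarith
    have hQcard : Nat.card Q ≤ 8 := by
      have := Subgroup.card_mul_index H
      rw [hH2] at this
      omega
    rw [hn]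
    apply small'
    have hSq : Nat.card (Sq Q) ≠ 1 := by
      intro h
      rw [Subgroup.card_eq_one] at h
      have hsq : ∀ g : Q, g * g = 1 := by
        intro g
        have := sq_mem g
        rw [h, Subgroup.mem_bot, pow_two] at this
        exact this
      apply hg₀
      have h1 := hsq (g₀ * u)
      have h2 : g₀⁻¹ = g₀ := inv_eq_of_mul_eq_one_left (hsq g₀)
      have h3 : u⁻¹ = u := inv_eq_of_mul_eq_one_left (hsq u)
      have h4 := inv_eq_of_mul_eq_one_left h1
      rw [mul_inv_rev, h2, h3] at h4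
      exact h4.symm
    have h1 := Subgroup.card_mul_index (Sq Q)
    have h2 : 0 < Nat.card (Sq Q) := Nat.card_pos
    have h3 : 2 * (Sq Q).index ≤ Nat.card (Sq Q) * (Sq Q).index :=
      Nat.mul_le_mul_right _ (by omega)
    omega

end Cfsg.Agent.H537.FrattiniBound
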