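import Mathlib.GroupTheory.Sylow
import Mathlib.GroupTheory.OrderOfElement
import Mathlib.Tactic

/-!
# H537: an isolation lemma

`T` is a Sylow 2-subgroup of the finite group `G` and `z` is an involution of the centre of `T`. Suppose that no
nontrivial element `w` of odd order inverted by `z` normalises a nontrivial 2-subgroup, and that for one such `w`
the centraliser of `w` is transitive on the Sylow 2-subgroups. Then `z` is the only involution that commutes
with `z` (`Dat.eq_of_commute`).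
-/

set_option autoImplicit false

namespace Cfsg.Agent.H537.OddTransp

open Subgroup
open scoped Pointwise

variable {G : Type*} [Group G]

/-! ### elementary facts on involutions -/

theorem inv_pow {s u : G} (h : s * u * s⁻¹ = u⁻¹) (n : ℕ) : s * u ^ n * s⁻¹ = (u ^ n)⁻¹ := by
  have h1 : (s * u * s⁻¹) ^ n = s * u ^ n * s⁻¹ := conj_pow
  rw [← h1, h, _root_.inv_pow]

theorem eq_inv_of_sq {s : G} (h : s * s = 1) : s⁻¹ = s := inv_eq_of_mul_eq_one_left h

/-- `s` inverts `s * t`. -/
theorem inverts_mul {s t : G} (hs : s * s = 1) (ht : t * t = 1) : s * (s * t) * s⁻¹ = (s * t)⁻¹ := by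
  rw [mul_inv_rev, eq_inv_of_sq hs, eq_inv_of_sq ht, ← mul_assoc, hs, one_mul]

theorem commute_of_sq {s t : G} (hs : s * s = 1) (ht : t * t = 1) (h : (s * t) * (s * t) = 1) : Commute s t := by
  have h1 : (s * t)⁻¹ = s * t := eq_inv_of_sq h
  rw [mul_inv_rev, eq_inv_of_sq hs, eq_inv_of_sq ht] at h1
  exact h1.symm

theorem sq_of_conj {z s : G} (hz : z * z = 1) (h : IsConj z s) : s * s = 1 := by
  obtain ⟨g, rfl⟩ := isConj_iff.1 h
  calc g * z * g⁻¹ * (g * z * g⁻¹) = g * (z * z) * g⁻¹ := by group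
    _ = 1 := by rw [hz]; group

theorem ne_one_of_conj {z s : G} (hz : z ≠ 1) (h : IsConj z s) : s ≠ 1 := by
  rintro rfl
  exact hz (isConj_one_left.1 h)

/-- an element of odd order is a square of one of its powers -/
theorem exists_sqrt [Finite G] {w : G} (hw : Odd (orderOf w)) : ∃ n : ℕ, w ^ n * w ^ n = w := by
  obtain ⟨k, hk⟩ := hw
  refine ⟨k + 1, ?_⟩
  rw [← pow_add, show k + 1 + (k + 1) = (2 * k + 1) + 1 by ring, pow_succ, ← hk, pow_orderOf_eq_one, one_mul]

theorem eq_one_of_odd_sq {w : G} (hw : Odd (orderOf w)) (h : w * w = 1) : w = 1 := by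
  have h1 : orderOf w ∣ 2 := orderOf_dvd_of_pow_eq_one (by rw [pow_two, h])
  rcases (Nat.dvd_prime Nat.prime_two).1 h1 with h2 | h2
  · exact orderOf_eq_one_iff.1 h2
  · rw [h2] at hw
    exact absurd hw (by decide)

theorem eq_one_of_odd_inv {w : G} (hw : Odd (orderOf w)) (h : w = w⁻¹) : w = 1 :=
  eq_one_of_odd_sq hw (by nth_rewrite 1 [h]; exact inv_mul_cancel w)

/-- Involutions with a product of odd order are swapped by a conjugate of one of them. -/
theorem swap [Finite G] {a s : G} (ha : a * a = 1) (hs : s * s = 1) (h : Odd (orderOf (a * s))) :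
    ∃ j : G, IsConj a j ∧ j * j = 1 ∧ j * a * j⁻¹ = s := by
  set w := a * s with hw
  have hinv : a * w * a⁻¹ = w⁻¹ := inverts_mul ha hs
  obtain ⟨n, hn⟩ := exists_sqrt h
  have h2 : Odd (orderOf (w ^ n)) := by
    have h3 : orderOf (w ^ n) ∣ orderOf w := orderOf_pow_dvd n
    exact Odd.of_dvd_nat h h3
  obtain ⟨m, hm⟩ := exists_sqrt h2
  set v := (w ^ n) ^ m with hv
  have hva : a * v * a⁻¹ = v⁻¹ := inv_pow (inv_pow hinv n) m
  have hv4 : v * v * (v * v) = w := by rw [hm, hn]
  have ha' : a⁻¹ = a := eq_inv_of_sq ha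
  rw [ha'] at hva
  -- `j = v⁻¹ * a * v`
  have hav : a * v = v⁻¹ * a := by
    calc a * v = a * v * a * a := by rw [mul_assoc, ha, mul_one]
      _ = v⁻¹ * a := by rw [hva]
  have hj : IsConj a (v⁻¹ * a * v) := isConj_iff.2 ⟨v⁻¹, by group⟩
  refine ⟨v⁻¹ * a * v, hj, sq_of_conj ha hj, ?_⟩
  have h1 : v⁻¹ * a * v = a * (v * v) := by
    rw [← hav, mul_assoc]
  have h5 : a * s = v * v * (v * v) := by rw [hv4]
  have h6 : s = a * (v * v * (v * v)) := by
    rw [← h5, ← mul_assoc, ha, one_mul]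
  have h7 : (a * (v * v))⁻¹ = a * (v * v) := by
    rw [← h1]; exact eq_inv_of_sq (sq_of_conj ha hj)
  rw [h1, h7, h6]
  have h8 : a * (v * v) * a * (a * (v * v)) = a * (v * v) * (a * a) * (v * v) := by group
  rw [h8, ha]; group

/-- A 2-element normalising a cyclic 2-group lies with it in a Sylow 2-subgroup. -/
theorem exists_sylow_pair [Finite G] {x y : G} (hx : IsPGroup 2 (zpowers x)) (hy : IsPGroup 2 (zpowers y))
    (h : x ∈ normalizer ((zpowers y : Subgroup G) : Set G)) : ∃ P : Sylow 2 G, x ∈ P ∧ y ∈ P := by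
  have h1 : IsPGroup 2 (zpowers x ⊔ zpowers y : Subgroup G) :=
    IsPGroup.to_sup_of_normal_right' hx hy (by rw [zpowers_le]; exact h)
  obtain ⟨P, hP⟩ := h1.exists_le_sylow
  exact ⟨P, hP ((le_sup_left : zpowers x ≤ _) (mem_zpowers x)), hP ((le_sup_right : zpowers y ≤ _) (mem_zpowers y))⟩

theorem isPGroup_zpowers_of_pow {x : G} {k : ℕ} (h : x ^ 2 ^ k = 1) : IsPGroup 2 (zpowers x) := by
  intro ⟨y, hy⟩
  obtain ⟨n, rfl⟩ := mem_zpowers_iff.1 hy
  refine ⟨k, Subtype.ext ?_⟩
  change (x ^ n) ^ 2 ^ k = 1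
  rw [← zpow_natCast, ← zpow_mul, mul_comm, zpow_mul, zpow_natCast, h, one_zpow]

theorem isPGroup_zpowers_of_sq {x : G} (h : x * x = 1) : IsPGroup 2 (zpowers x) :=
  isPGroup_zpowers_of_pow (k := 1) (by rw [pow_one, pow_two, h])

theorem mem_normalizer_zpowers_of_inv {s u : G} (h : s * u * s⁻¹ = u⁻¹) :
    s ∈ normalizer ((zpowers u : Subgroup G) : Set G) := by
  have h1 : (zpowers u).map (MulAut.conj s).toMonoidHom = zpowers u := by
    rw [MonoidHom.map_zpowers]
    have : (MulAut.conj s).toMonoidHom u = u⁻¹ := by simpa using h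
    rw [this, zpowers_inv]
  rw [mem_normalizer_iff]
  intro x
  constructor
  · intro hx
    rw [← h1]
    exact ⟨x, hx, by simp⟩
  · intro hx
    have hx' : s * x * s⁻¹ ∈ (zpowers u : Subgroup G) := hx
    rw [← h1] at hx'
    obtain ⟨y, hy, hyx⟩ := hx'
    have : y = x := by
      have h2 : s * y * s⁻¹ = s * x * s⁻¹ := by simpa using hyx
      simpa using h2
    rw [← this]
    exact hy

theorem mem_normalizer_zpowers_of_commute {s u : G} (h : Commute s u) :
    s ∈ normalizer ((zpowers u : Subgroup G) : Set G) := by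
  have h1 : s ∈ centralizer ((zpowers u : Subgroup G) : Set G) := by
    rw [mem_centralizer_iff]
    intro x hx
    obtain ⟨n, rfl⟩ := mem_zpowers_iff.1 hx
    exact (h.symm.zpow_left n)
  exact centralizer_le_normalizer _ h1

theorem mem_smul_sylow {p : ℕ} {T : Sylow p G} {g x : G} : x ∈ g • T ↔ g⁻¹ * x * g ∈ T := by
  change x ∈ (MulAut.conj g • (T : Subgroup G)) ↔ _
  rw [Subgroup.mem_pointwise_smul_iff_inv_smul_mem]
  have h : (MulAut.conj g)⁻¹ • x = g⁻¹ * x * g := by
    rw [← map_inv, MulAut.smul_def, MulAut.conj_apply, inv_inv]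
  rw [h]
  exact Iff.rfl

/-! ### the hypotheses -/

/-- The hypotheses of the isolation lemma. -/
structure Dat (T : Sylow 2 G) (z : G) : Prop where
  zT : z ∈ T
  zc : ∀ t ∈ T, Commute t z
  z2 : z * z = 1
  z1 : z ≠ 1
  b : ∀ w : G, w ≠ 1 → Odd (orderOf w) → z * w * z⁻¹ = w⁻¹ → ∀ W : Subgroup G, IsPGroup 2 W →
    w ∈ normalizer (W : Set G) → W = ⊥
  w0 : ∃ w : G, w ≠ 1 ∧ Odd (orderOf w) ∧ z * w * z⁻¹ = w⁻¹ ∧ ∀ P : Sylow 2 G, ∃ c : G, Commute c w ∧ c • T = P

namespace Dat

variable [Finite G] {T : Sylow 2 G} {z : G}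

omit [Finite G] in
theorem conj_b (D : Dat T z) {s : G} (hs : IsConj z s) {w : G} (hw1 : w ≠ 1) (hwo : Odd (orderOf w))
    (hw : s * w * s⁻¹ = w⁻¹) {W : Subgroup G} (hW : IsPGroup 2 W) (hwW : w ∈ normalizer (W : Set G)) : W = ⊥ := by
  obtain ⟨g, rfl⟩ := isConj_iff.1 hs
  have h1 : W.map (MulAut.conj g⁻¹).toMonoidHom = ⊥ := by
    refine D.b (g⁻¹ * w * g) ?_ ?_ ?_ _ (hW.map _) ?_
    · intro h
      apply hw1
      have : w = g * (g⁻¹ * w * g) * g⁻¹ := by group
      rw [this, h]; group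
    · have h2 : orderOf (g⁻¹ * w * g) = orderOf w := by
        have := orderOf_injective (MulAut.conj g⁻¹).toMonoidHom (MulAut.conj g⁻¹).injective w
        simpa using this
      rw [h2]; exact hwo
    · calc z * (g⁻¹ * w * g) * z⁻¹ = g⁻¹ * ((g * z * g⁻¹) * w * (g * z * g⁻¹)⁻¹) * g := by group
        _ = (g⁻¹ * w * g)⁻¹ := by rw [hw]; group
    · rw [mem_normalizer_iff]
      have hmem : ∀ x : G, x ∈ W.map (MulAut.conj g⁻¹).toMonoidHom ↔ g * x * g⁻¹ ∈ W := by
        intro x
        constructor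
        · rintro ⟨y, hy, rfl⟩
          have : g * ((MulAut.conj g⁻¹).toMonoidHom y) * g⁻¹ = y := by simp [mul_assoc]
          rw [this]; exact hy
        · intro h
          exact ⟨_, h, by simp [mul_assoc]⟩
      intro x
      rw [hmem, hmem]
      have h3 := (mem_normalizer_iff.1 hwW) (g * x * g⁻¹)
      have h4 : g * (g⁻¹ * w * g * x * (g⁻¹ * w * g)⁻¹) * g⁻¹ = w * (g * x * g⁻¹) * w⁻¹ := by group
      rw [h4]
      exact h3
  rwa [map_eq_bot_iff_of_injective _ (MulAut.conj g⁻¹).injective] at h1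

omit [Finite G] in
/-- 2-elements commuting with elements of odd order inverted by a conjugate of `z` are trivial -/
theorem two_elt (D : Dat T z) {s : G} (hs : IsConj z s) {w : G} (hw1 : w ≠ 1) (hwo : Odd (orderOf w))
    (hw : s * w * s⁻¹ = w⁻¹) {a : G} (ha : IsPGroup 2 (zpowers a)) (hc : Commute a w) : a = 1 := by
  have := D.conj_b hs hw1 hwo hw ha (mem_normalizer_zpowers_of_commute hc.symm)
  exact zpowers_eq_bot.1 this

theorem odd_of_commute (D : Dat T z) {s : G} (hs : IsConj z s) {w : G} (hw1 : w ≠ 1) (hwo : Odd (orderOf w))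
    (hw : s * w * s⁻¹ = w⁻¹) {a : G} (hc : Commute a w) : Odd (orderOf a) := by
  obtain ⟨k, m, hm, hkm⟩ := Nat.exists_eq_two_pow_mul_odd (orderOf_pos a).ne'
  have h1 : (a ^ m) ^ 2 ^ k = 1 := by
    rw [← pow_mul, mul_comm, ← hkm, pow_orderOf_eq_one]
  have h2 : a ^ m = 1 := D.two_elt hs hw1 hwo hw (isPGroup_zpowers_of_pow h1) (hc.pow_left m)
  exact Odd.of_dvd_nat hm (orderOf_dvd_of_pow_eq_one h2)

omit [Finite G] in
/-- conjugates of `z` in `T` are central in `T` -/
theorem central_T (D : Dat T z) {s : G} (hs : IsConj z s) (hsT : s ∈ T) : ∀ t ∈ T, Commute t s := by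
  obtain ⟨w, hw1, hwo, hw, htr⟩ := D.w0
  obtain ⟨g, rfl⟩ := isConj_iff.1 hs
  obtain ⟨c, hcw, hc⟩ := htr (g⁻¹ • T)
  -- `n = (g * c)` normalises `T`
  have hn : (g * c) • T = T := by
    rw [mul_smul, hc, smul_inv_smul]
  have hmem : ∀ x : G, x ∈ T ↔ (g * c) * x * (g * c)⁻¹ ∈ T := by
    have h1 := Sylow.smul_eq_iff_mem_normalizer.1 hn
    intro x
    exact (mem_normalizer_iff.1 h1) x
  -- `y = c⁻¹ * z * c` lies in `T`
  have hyT : c⁻¹ * z * c ∈ T := by
    rw [hmem]
    have : g * c * (c⁻¹ * z * c) * (g * c)⁻¹ = g * z * g⁻¹ := by group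
    rw [this]; exact hsT
  have hy2 : IsPGroup 2 (zpowers (z * (c⁻¹ * z * c))) := by
    have : z * (c⁻¹ * z * c) ∈ T := mul_mem D.zT hyT
    have h3 : zpowers (z * (c⁻¹ * z * c)) ≤ (T : Subgroup G) := by rw [zpowers_le]; exact this
    exact T.isPGroup'.to_le h3
  have hyw : c⁻¹ * z * c * w * (c⁻¹ * z * c)⁻¹ = w⁻¹ := by
    have h1 : c * w * c⁻¹ = w := by rw [hcw.eq]; group
    calc c⁻¹ * z * c * w * (c⁻¹ * z * c)⁻¹ = c⁻¹ * (z * (c * w * c⁻¹) * z⁻¹) * c := by group
      _ = c⁻¹ * w⁻¹ * c := by rw [h1, hw]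
      _ = (c⁻¹ * w * c)⁻¹ := by group
      _ = w⁻¹ := by
        congr 1
        rw [mul_assoc, ← hcw.eq]; group
  have hcomm : Commute (z * (c⁻¹ * z * c)) w := by
    have h1 : z * (c⁻¹ * z * c) * w * (z * (c⁻¹ * z * c))⁻¹ = w := by
      calc z * (c⁻¹ * z * c) * w * (z * (c⁻¹ * z * c))⁻¹
          = z * (c⁻¹ * z * c * w * (c⁻¹ * z * c)⁻¹) * z⁻¹ := by group
        _ = (z * w * z⁻¹)⁻¹ := by rw [hyw]; group
        _ = w := by rw [hw, inv_inv]
    exact mul_inv_eq_iff_eq_mul.1 h1
  have h1 : z * (c⁻¹ * z * c) = 1 := D.two_elt (IsConj.refl z) hw1 hwo hw hy2 hcomm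
  have h2 : c⁻¹ * z * c = z := by
    have h3 := eq_inv_of_mul_eq_one_right h1
    rw [eq_inv_of_sq D.z2] at h3
    exact h3
  intro t ht
  have h3 : (g * c)⁻¹ * t * (g * c) ∈ T := by
    rw [hmem]
    have : g * c * ((g * c)⁻¹ * t * (g * c)) * (g * c)⁻¹ = t := by group
    rw [this]; exact ht
  have h4 := D.zc _ h3
  have h5 : g * z * g⁻¹ = (g * c) * z * (g * c)⁻¹ := by
    nth_rewrite 1 [show z = c * (c⁻¹ * z * c) * c⁻¹ by group]
    rw [h2]; group
  rw [h5]
  have h6 : t = (g * c) * ((g * c)⁻¹ * t * (g * c)) * (g * c)⁻¹ := by group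
  rw [h6]
  exact (Commute.conj_iff _).2 h4

theorem central (D : Dat T z) {s : G} (hs : IsConj z s) {P : Sylow 2 G} (hsP : s ∈ P) :
    ∀ t ∈ P, Commute t s := by
  obtain ⟨g, rfl⟩ := MulAction.exists_smul_eq G T P
  intro t ht
  rw [mem_smul_sylow] at ht hsP
  have h1 : IsConj z (g⁻¹ * s * g) := hs.trans (isConj_iff.2 ⟨g⁻¹, by group⟩)
  have h2 := D.central_T h1 hsP _ ht
  have h3 : t = g * (g⁻¹ * t * g) * g⁻¹ := by group
  have h4 : s = g * (g⁻¹ * s * g) * g⁻¹ := by group
  rw [h3, h4]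
  exact (Commute.conj_iff _).2 h2

/-- every Sylow 2-subgroup contains a conjugate of `z` -/
theorem exists_mem (D : Dat T z) (P : Sylow 2 G) : ∃ s ∈ P, IsConj z s := by
  obtain ⟨g, rfl⟩ := MulAction.exists_smul_eq G T P
  refine ⟨g * z * g⁻¹, ?_, isConj_iff.2 ⟨g, rfl⟩⟩
  rw [mem_smul_sylow]
  have h : g⁻¹ * (g * z * g⁻¹) * g = z := by group
  rw [h]
  exact D.zT

/-- an element inverted by a conjugate of `z` has odd order or square 1 -/
theorem dichotomy (D : Dat T z) {s : G} (hs : IsConj z s) {u : G} (hu : s * u * s⁻¹ = u⁻¹) :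
    Odd (orderOf u) ∨ u * u = 1 := by
  obtain ⟨k, m, hm, hkm⟩ := Nat.exists_eq_two_pow_mul_odd (orderOf_pos u).ne'
  by_cases hb : u ^ 2 ^ k = 1
  · right
    have hu2 := isPGroup_zpowers_of_pow hb
    obtain ⟨P, hsP, huP⟩ := exists_sylow_pair (isPGroup_zpowers_of_sq (sq_of_conj D.z2 hs)) hu2
      (mem_normalizer_zpowers_of_inv hu)
    have h1 := D.central hs hsP u huP
    have h2 : s * u * s⁻¹ = u := by rw [← h1.eq]; group
    rw [hu] at h2
    nth_rewrite 1 [← h2]
    exact inv_mul_cancel u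
  · left
    have hbo : Odd (orderOf (u ^ 2 ^ k)) := by
      have h1 : (u ^ 2 ^ k) ^ m = 1 := by rw [← pow_mul, ← hkm, pow_orderOf_eq_one]
      exact Odd.of_dvd_nat hm (orderOf_dvd_of_pow_eq_one h1)
    exact D.odd_of_commute hs hb hbo (inv_pow hu _) ((Commute.refl u).pow_right _)

/-- commuting is transitive on the conjugates of `z` -/
theorem comm_trans (D : Dat T z) {s s' s'' : G} (hs : IsConj z s) (hs' : IsConj z s') (hs'' : IsConj z s'')
    (h : Commute s s') (h' : Commute s' s'') : Commute s s'' := by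
  have q := sq_of_conj D.z2 hs
  have q' := sq_of_conj D.z2 hs'
  have q'' := sq_of_conj D.z2 hs''
  rcases D.dichotomy hs (inverts_mul q q'') with ho | h2
  · by_cases h1 : s * s'' = 1
    · exact commute_of_sq q q'' (by rw [h1, one_mul])
    · have := D.two_elt hs h1 ho (inverts_mul q q'') (isPGroup_zpowers_of_sq q') (h.symm.mul_right h')
      exact absurd this (ne_one_of_conj D.z1 hs')
  · exact commute_of_sq q q'' h2

/-- `z` commutes with none of its other conjugates -/
theorem isolated (D : Dat T z) {s : G} (hs : IsConj z s) (hsz : Commute s z) : s = z := by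
  by_contra hne
  obtain ⟨w, hw1, hwo, hw, -⟩ := D.w0
  have hz' : z⁻¹ = z := eq_inv_of_sq D.z2
  have q := sq_of_conj D.z2 hs
  -- the conjugate `r`
  obtain ⟨r, hr⟩ : ∃ r, r = w * z * w⁻¹ := ⟨_, rfl⟩
  have hzr : IsConj z r := isConj_iff.2 ⟨w, hr.symm⟩
  have qr := sq_of_conj D.z2 hzr
  have hzr' : z * r = w⁻¹ * w⁻¹ := by
    rw [hr]
    calc z * (w * z * w⁻¹) = (z * w * z⁻¹) * w⁻¹ := by rw [hz']; group
      _ = _ := by rw [hw]
  have hzro : Odd (orderOf (z * r)) := by
    rw [hzr', ← mul_inv_rev, orderOf_inv, ← pow_two]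
    exact Odd.of_dvd_nat hwo (orderOf_pow_dvd 2)
  have hzr1 : z * r ≠ 1 := by
    rw [hzr', ← mul_inv_rev, Ne, inv_eq_one]
    exact fun h => hw1 (eq_one_of_odd_sq hwo h)
  have hnc : ¬ Commute z r := by
    intro h
    apply hzr1
    apply eq_one_of_odd_sq hzro
    calc z * r * (z * r) = z * (r * z) * r := by group
      _ = (z * z) * (r * r) := by rw [← h.eq]; group
      _ = 1 := by rw [D.z2, qr, one_mul]
  have hsro : Odd (orderOf (s * r)) := by
    rcases D.dichotomy hs (inverts_mul q qr) with ho | h2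
    · exact ho
    · exact absurd (D.comm_trans (IsConj.refl z) hs hzr hsz.symm (commute_of_sq q qr h2)) hnc
  obtain ⟨j, hj, qj, hjz⟩ := swap D.z2 qr hzro
  obtain ⟨j', hj', qj', hjs⟩ := swap q qr hsro
  have hj' : IsConj z j' := hs.trans hj'
  have ij : j⁻¹ = j := eq_inv_of_sq qj
  have ij' : j'⁻¹ = j' := eq_inv_of_sq qj'
  -- `p = j * j'` maps `s` to `z`
  have hpz : j * j' * s * (j * j')⁻¹ = z := by
    calc j * j' * s * (j * j')⁻¹ = j * (j' * s * j'⁻¹) * j⁻¹ := by group
      _ = j⁻¹ * (j * z * j⁻¹) * j := by rw [hjs, hjz, ij]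
      _ = z := by group
  have hp1 : j * j' ≠ 1 := by
    intro h
    rw [h] at hpz
    apply hne
    simpa using hpz
  have hpj : j * (j * j') * j⁻¹ = (j * j')⁻¹ := inverts_mul qj qj'
  -- the 2-group generated by the conjugates that commute with `z`
  let S : Set G := {x | IsConj z x ∧ Commute x z}
  have hSS : ∀ x ∈ S, ∀ y ∈ S, Commute x y := fun x hx y hy =>
    D.comm_trans hx.1 (IsConj.refl z) hy.1 hx.2 hy.2.symm
  have hSA : ∀ x ∈ closure S, ∀ y ∈ S, Commute x y := by
    intro x hx y hy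
    induction hx using closure_induction with
    | mem x hx => exact hSS x hx y hy
    | one => exact Commute.one_left y
    | mul a b _ _ ha hb => exact ha.mul_left hb
    | inv a _ ha => exact ha.inv_left
  have hAA : ∀ x ∈ closure S, ∀ y ∈ closure S, Commute x y := by
    intro x hx y hy
    induction hy using closure_induction with
    | mem y hy => exact hSA x hx y hy
    | one => exact Commute.one_right x
    | mul a b _ _ ha hb => exact ha.mul_right hb
    | inv a _ ha => exact ha.inv_right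
  have hA2 : ∀ x ∈ closure S, x * x = 1 := by
    intro x hx
    induction hx using closure_induction with
    | mem x hx => exact sq_of_conj D.z2 hx.1
    | one => exact one_mul 1
    | mul a b ha' hb' ha hb =>
      calc a * b * (a * b) = a * (b * a) * b := by group
        _ = (a * a) * (b * b) := by rw [← (hAA a ha' b hb').eq]; group
        _ = 1 := by rw [ha, hb, one_mul]
    | inv a _ ha => rw [← mul_inv_rev, ha, inv_one]
  have hAp : IsPGroup 2 (closure S) := by
    rintro ⟨x, hx⟩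
    exact ⟨1, Subtype.ext (by simpa [pow_two] using hA2 x hx)⟩
  have hzS : z ∈ closure S := subset_closure ⟨IsConj.refl z, Commute.refl z⟩
  have hpS : ∀ x ∈ S, j * j' * x * (j * j')⁻¹ ∈ S := by
    rintro x ⟨hx, hxz⟩
    refine ⟨hx.trans (isConj_iff.2 ⟨_, rfl⟩), ?_⟩
    have h3 := (Commute.conj_iff (j * j')).2 (D.comm_trans hx (IsConj.refl z) hs hxz hsz.symm)
    rwa [hpz] at h3
  have hpA : j * j' ∈ normalizer ((closure S : Subgroup G) : Set G) := by
    have h1 : (closure S).map (MulAut.conj (j * j')).toMonoidHom ≤ closure S := by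
      rw [MonoidHom.map_closure, closure_le]
      rintro _ ⟨x, hx, rfl⟩
      exact subset_closure (hpS x hx)
    have h2 : (closure S).map (MulAut.conj (j * j')).toMonoidHom = closure S :=
      Subgroup.eq_of_le_of_card_ge h1 (by
        rw [Subgroup.card_map_of_injective (MulAut.conj (j * j')).injective])
    rw [mem_normalizer_iff]
    intro x
    constructor
    · intro hx
      rw [← h2]
      exact ⟨x, hx, rfl⟩
    · intro hx
      have hx' : j * j' * x * (j * j')⁻¹ ∈ (closure S : Subgroup G) := hx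
      rw [← h2] at hx'
      obtain ⟨y, hy, hyx⟩ := hx'
      have h3 : j * j' * y * (j * j')⁻¹ = j * j' * x * (j * j')⁻¹ := hyx
      have : y = x := by
        have h4 := congrArg (fun g => (j * j')⁻¹ * g * (j * j')) h3
        simpa [mul_assoc] using h4
      rw [← this]
      exact hy
  rcases D.dichotomy (hs := hj) hpj with ho | h2
  · have := D.conj_b hj hp1 ho hpj hAp hpA
    rw [this] at hzS
    exact D.z1 (mem_bot.1 hzS)
  · -- `p` is an involution in `M = N(A)`
    have hjj' : Commute j j' := commute_of_sq qj qj' h2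
    set M := normalizer ((closure S : Subgroup G) : Set G) with hM
    have hTM : (T : Subgroup G) ≤ M := by
      intro t ht
      have h1 : ∀ t ∈ T, ∀ x ∈ S, t * x * t⁻¹ ∈ S := by
        rintro t ht x ⟨hx, hxz⟩
        refine ⟨hx.trans (isConj_iff.2 ⟨_, rfl⟩), ?_⟩
        have h3 : t * z * t⁻¹ = z := by rw [(D.zc t ht).eq]; group
        have h4 := (Commute.conj_iff t).2 hxz
        rwa [h3] at h4
      have h2 : ∀ t ∈ T, ∀ x ∈ closure S, t * x * t⁻¹ ∈ closure S := by
        intro t ht x hx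
        have h3 : (closure S).map (MulAut.conj t).toMonoidHom ≤ closure S := by
          rw [MonoidHom.map_closure, closure_le]
          rintro _ ⟨x, hx, rfl⟩
          exact subset_closure (h1 t ht x hx)
        exact h3 ⟨x, hx, rfl⟩
      rw [hM, mem_normalizer_iff]
      intro x
      constructor
      · exact h2 t ht x
      · intro hx
        have h4 := h2 t⁻¹ (inv_mem ht) _ hx
        have h5 : t⁻¹ * (t * x * t⁻¹) * t⁻¹⁻¹ = x := by group
        rwa [h5] at h4
    -- `p` lies in a conjugate of `T` in `M`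
    obtain ⟨m, hm, hpm⟩ : ∃ m ∈ M, m⁻¹ * (j * j') * m ∈ T := by
      let T' : Sylow 2 M := T.subtype hTM
      have h3 : IsPGroup 2 (zpowers (⟨j * j', hpA⟩ : M)) := by
        apply isPGroup_zpowers_of_sq
        exact Subtype.ext h2
      obtain ⟨Q, hQ⟩ := h3.exists_le_sylow
      obtain ⟨m, hm⟩ := MulAction.exists_smul_eq M T' Q
      refine ⟨m, m.2, ?_⟩
      have h4 : (⟨j * j', hpA⟩ : M) ∈ Q := hQ (mem_zpowers _)
      rw [← hm, mem_smul_sylow] at h4
      exact h4
    -- the conjugate `m z m⁻¹`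
    have hs0 : IsConj z (m * z * m⁻¹) := isConj_iff.2 ⟨m, rfl⟩
    have hs0A : m * z * m⁻¹ ∈ closure S := ((mem_normalizer_iff.1 hm) z).1 hzS
    have hs0z : Commute (m * z * m⁻¹) z := hAA _ hs0A _ hzS
    have hs0p : Commute (j * j') (m * z * m⁻¹) := by
      have h3 := D.zc _ hpm
      have h4 : j * j' = m * (m⁻¹ * (j * j') * m) * m⁻¹ := by group
      rw [h4]
      exact (Commute.conj_iff _).2 h3
    have hnjz : ¬ Commute (m * z * m⁻¹) j := by
      intro h
      have h3 : Commute z j := D.comm_trans (IsConj.refl z) hs0 hj hs0z.symm h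
      have h4 : j * z * j⁻¹ = z := by rw [← h3.eq]; group
      rw [hjz] at h4
      exact hnc (h4 ▸ Commute.refl z)
    have q0 := sq_of_conj D.z2 hs0
    rcases D.dichotomy hs0 (inverts_mul q0 qj) with ho | h3
    · have h4 : m * z * m⁻¹ * j ≠ 1 := by
        intro h
        exact hnjz (commute_of_sq q0 qj (by rw [h, one_mul]))
      have h5 : Commute (j * j') j := (Commute.refl j).mul_left hjj'.symm
      exact hp1 (D.two_elt hs0 h4 ho (inverts_mul q0 qj) (isPGroup_zpowers_of_sq h2) (hs0p.mul_right h5))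
    · exact hnjz (commute_of_sq q0 qj h3)

theorem isolated' (D : Dat T z) {s s' : G} (hs : IsConj z s) (hs' : IsConj z s') (h : Commute s' s) : s' = s := by
  obtain ⟨g, rfl⟩ := isConj_iff.1 hs
  have h1 : IsConj z (g⁻¹ * s' * g) := hs'.trans (isConj_iff.2 ⟨g⁻¹, by group⟩)
  have h2 : Commute (g⁻¹ * s' * g) z := by
    have h3 : g⁻¹ * s' * g = g⁻¹ * s' * g⁻¹⁻¹ := by group
    have h4 : z = g⁻¹ * (g * z * g⁻¹) * g⁻¹⁻¹ := by group
    rw [h3, h4]
    exact (Commute.conj_iff _).2 h
  have h3 := D.isolated h1 h2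
  calc s' = g * (g⁻¹ * s' * g) * g⁻¹ := by group
    _ = _ := by rw [h3]

/-- an involution commutes with at most one conjugate of `z` -/
theorem unique_comm (D : Dat T z) {e : G} (he : e * e = 1) (he1 : e ≠ 1) {s s' : G} (hs : IsConj z s)
    (hs' : IsConj z s') (h : Commute s e) (h' : Commute s' e) : s = s' := by
  have q := sq_of_conj D.z2 hs
  have q' := sq_of_conj D.z2 hs'
  rcases D.dichotomy hs (inverts_mul q q') with ho | h2
  · by_cases h1 : s * s' = 1
    · exact (D.isolated' hs hs' (commute_of_sq q q' (by rw [h1, one_mul])).symm).symm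
    · exact absurd (D.two_elt hs h1 ho (inverts_mul q q') (isPGroup_zpowers_of_sq he)
        (h.symm.mul_right h'.symm)) he1
  · exact (D.isolated' hs hs' (commute_of_sq q q' h2).symm).symm

/-- **The isolation lemma**: `z` is the only involution that commutes with `z`. -/
theorem eq_of_commute (D : Dat T z) {e : G} (he : e * e = 1) (he1 : e ≠ 1) (hez : Commute e z) : e = z := by
  obtain ⟨w, hw1, hwo, hw, -⟩ := D.w0
  have hz' : z⁻¹ = z := eq_inv_of_sq D.z2
  have ie : e⁻¹ = e := eq_inv_of_sq he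
  -- `z₁ = w * z` is a conjugate of `z`
  obtain ⟨n, hn⟩ := exists_sqrt hwo
  have hv : z * w ^ n * z⁻¹ = (w ^ n)⁻¹ := inv_pow hw n
  have hz1 : IsConj z (w * z) := by
    refine isConj_iff.2 ⟨w ^ n, ?_⟩
    calc w ^ n * z * (w ^ n)⁻¹ = w ^ n * z * (z * w ^ n * z⁻¹) := by rw [hv]
      _ = w ^ n * (z * z) * w ^ n * z⁻¹ := by group
      _ = (w ^ n * w ^ n) * z := by rw [D.z2, hz']; group
      _ = w * z := by rw [hn]
  have q1 := sq_of_conj D.z2 hz1
  set e' := w * e * w⁻¹ with he'
  have qe' : e' * e' = 1 := by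
    rw [he']
    calc w * e * w⁻¹ * (w * e * w⁻¹) = w * (e * e) * w⁻¹ := by group
      _ = 1 := by rw [he]; group
  have ie' : e'⁻¹ = e' := eq_inv_of_sq qe'
  have he'1 : e' ≠ 1 := by
    intro h
    apply he1
    rw [he'] at h
    calc e = w⁻¹ * (w * e * w⁻¹) * w := by group
      _ = 1 := by rw [h]; group
  -- `z₁` inverts `u = e * e'`
  have hzw : z * w = w⁻¹ * z := by
    calc z * w = z * w * z⁻¹ * z := by group
      _ = w⁻¹ * z := by rw [hw]
  have hzw' : z * w⁻¹ = w * z := by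
    calc z * w⁻¹ = w * (w⁻¹ * z) * w⁻¹ := by group
      _ = w * (z * w) * w⁻¹ := by rw [hzw]
      _ = w * z := by group
  have hu : w * z * (e * e') * (w * z)⁻¹ = (e * e')⁻¹ := by
    rw [mul_inv_rev e e', ie, ie', he']
    have h1 : (w * z)⁻¹ = z * w⁻¹ := by rw [mul_inv_rev, hz']
    rw [h1]
    calc w * z * (e * (w * e * w⁻¹)) * (z * w⁻¹)
        = w * (z * e) * w * e * w⁻¹ * z * w⁻¹ := by group
      _ = w * (e * z) * w * e * (w⁻¹ * z) * w⁻¹ := by rw [hez.eq]; group
      _ = w * (e * z) * w * e * (z * w) * w⁻¹ := by rw [← hzw]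
      _ = w * e * (z * w) * e * z := by group
      _ = w * e * (w⁻¹ * z) * e * z := by rw [hzw]
      _ = w * e * w⁻¹ * (z * e) * z := by group
      _ = w * e * w⁻¹ * e * (z * z) := by rw [← hez.eq]; group
      _ = w * e * w⁻¹ * e := by rw [D.z2]; group
  rcases D.dichotomy hz1 hu with ho | h2
  · by_cases hu1 : e * e' = 1
    · -- `e` commutes with `w`
      exfalso
      have h3 : e' = e := by
        have := eq_inv_of_mul_eq_one_right hu1
        rw [this, ie]
      have h4 : Commute e w := by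
        have h5 : w * e * w⁻¹ = e := h3
        exact (mul_inv_eq_iff_eq_mul.1 h5).symm
      exact he1 (D.two_elt (IsConj.refl z) hw1 hwo hw (isPGroup_zpowers_of_sq he) h4)
    · -- `e * z₁` has odd order
      have h3 : Commute (e * (w * z)) (e * e') := by
        have h4 : e * (w * z) * (e * e') * (e * (w * z))⁻¹ = e * e' := by
          calc e * (w * z) * (e * e') * (e * (w * z))⁻¹
              = e * (w * z * (e * e') * (w * z)⁻¹) * e⁻¹ := by group
            _ = e * (e * e')⁻¹ * e⁻¹ := by rw [hu]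
            _ = (e * (e * e') * e⁻¹)⁻¹ := by group
            _ = e * e' := by rw [inverts_mul he qe', inv_inv]
        exact mul_inv_eq_iff_eq_mul.1 h4
      have h4 : Odd (orderOf (e * (w * z))) := D.odd_of_commute hz1 hu1 ho hu h3
      obtain ⟨j, hj, -, hje⟩ := swap he q1 h4
      have h5 : IsConj z e := hz1.trans (isConj_iff.2 ⟨j⁻¹, by rw [← hje]; group⟩)
      exact D.isolated h5 hez
  · -- `e` and `e'` commute
    exfalso
    have hc : Commute e e' := commute_of_sq he qe' h2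
    obtain ⟨P, heP, heP'⟩ := exists_sylow_pair (isPGroup_zpowers_of_sq he) (isPGroup_zpowers_of_sq qe')
      (mem_normalizer_zpowers_of_commute hc)
    obtain ⟨s, hsP, hs⟩ := D.exists_mem P
    have h3 : Commute s e := (D.central hs hsP e heP).symm
    have h4 : Commute s e' := (D.central hs hsP e' heP').symm
    have h5 : z = s := D.unique_comm he he1 (IsConj.refl z) hs hez.symm h3
    have h6 : w * z * w⁻¹ = s :=
      D.unique_comm qe' he'1 (isConj_iff.2 ⟨w, rfl⟩) hs ((Commute.conj_iff _).2 hez.symm) h4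
    have h7 : w * z * w⁻¹ = z := by rw [h6, h5]
    have h8 : z * w * z⁻¹ = w := by
      have h9 : w * z = z * w := mul_inv_eq_iff_eq_mul.1 h7
      rw [← h9]; group
    rw [hw] at h8
    exact hw1 (eq_one_of_odd_inv hwo h8.symm)

end Dat

end Cfsg.Agent.H537.OddTransp
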