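import Cfsg.Agent.H537.RealSolv
import Cfsg.Agent.S0007
import Cfsg.Agent.S3861
import Cfsg.Agent.Lib.ModFour
import Cfsg.Agent.Transfer.AbelianHall
import Cfsg.Agent.OddHalf.D9.EEight.Count

/-!
# H537: an element `i` with `i² = 1` whose class size is prime to all real class sizes

`Hyp i`: `i² = 1`, the class of `i` has odd size, prime to the size of the class of every real element `x` with
`x² ≠ 1`. If such an `i` is not central, the finite group `G` is solvable (`Hyp.isSolvable`).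
-/

set_option autoImplicit false

namespace Cfsg.Agent.H537.RealSize

open Subgroup Cfsg.Agent.H537.OddTransp Cfsg.Agent.H537.RealTrans Cfsg.Agent.H537.RealSolv
open scoped Pointwise

variable {G : Type*} [Group G]

/-- The size of the conjugacy class of `x`. -/
noncomputable abbrev cs (x : G) : ℕ := (centralizer ({x} : Set G)).index

/-- The hypothesis on `i`. -/
structure Hyp (i : G) : Prop where
  i2 : i * i = 1
  odd : Odd (cs i)
  cop : ∀ x : G, IsConj x x⁻¹ → x * x ≠ 1 → (cs x).Coprime (cs i)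

theorem mem_cent {x c : G} : c ∈ centralizer ({x} : Set G) ↔ Commute c x := by
  rw [mem_centralizer_singleton_iff]
  exact Iff.rfl

theorem conj_eq_of_commute {c x : G} (h : Commute c x) : c * x * c⁻¹ = x := by rw [h.eq]; group

theorem pairs [Finite G] {x i : G} (h : (cs x).Coprime (cs i)) (g : G) :
    ∃ c : G, Commute c x ∧ g * i * g⁻¹ = c * i * c⁻¹ := by
  obtain ⟨c, hc, m, hm, rfl⟩ := Cfsg.Agent.S0007.exists_mul_eq _ _ h g
  refine ⟨c, mem_cent.1 hc, ?_⟩
  calc c * m * i * (c * m)⁻¹ = c * (m * i * m⁻¹) * c⁻¹ := by group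
    _ = c * i * c⁻¹ := by rw [conj_eq_of_commute (mem_cent.1 hm)]

theorem isConj_mul [Finite G] {x i : G} (h : (cs x).Coprime (cs i)) (g : G) :
    IsConj (x * (g * i * g⁻¹)) (x * i) := by
  obtain ⟨c, hc, hg⟩ := pairs h g
  rw [hg]
  refine isConj_iff.2 ⟨c⁻¹, ?_⟩
  calc c⁻¹ * (x * (c * i * c⁻¹)) * c⁻¹⁻¹ = (c⁻¹ * x * c) * i := by group
    _ = x * i := by rw [show c⁻¹ * x * c = x by rw [mul_assoc, ← hc.eq]; group]

theorem isConj_mul_inv [Finite G] {x i : G} (hi : i * i = 1) (h : (cs x).Coprime (cs i)) (hx : IsConj x x⁻¹) :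
    IsConj (x * i) (x * i)⁻¹ := by
  obtain ⟨t, ht⟩ := isConj_iff.1 hx
  obtain ⟨c, hc, htc⟩ := pairs h t
  have h1 : (c⁻¹ * t) * i * (c⁻¹ * t)⁻¹ = i := by
    calc (c⁻¹ * t) * i * (c⁻¹ * t)⁻¹ = c⁻¹ * (t * i * t⁻¹) * c := by group
      _ = i := by rw [htc]; group
  have h2 : (c⁻¹ * t) * x * (c⁻¹ * t)⁻¹ = x⁻¹ := by
    calc (c⁻¹ * t) * x * (c⁻¹ * t)⁻¹ = c⁻¹ * (t * x * t⁻¹) * c := by group
      _ = (c⁻¹ * x * c)⁻¹ := by rw [ht]; group
      _ = x⁻¹ := by rw [show c⁻¹ * x * c = x by rw [mul_assoc, ← hc.eq]; group]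
  have h3 : IsConj (x * i) (x⁻¹ * i) := isConj_iff.2 ⟨c⁻¹ * t, by
    calc (c⁻¹ * t) * (x * i) * (c⁻¹ * t)⁻¹
        = ((c⁻¹ * t) * x * (c⁻¹ * t)⁻¹) * ((c⁻¹ * t) * i * (c⁻¹ * t)⁻¹) := by group
      _ = x⁻¹ * i := by rw [h1, h2]⟩
  refine h3.trans (isConj_iff.2 ⟨i, ?_⟩)
  rw [mul_inv_rev, eq_inv_of_sq hi]
  calc i * (x⁻¹ * i) * i = i * x⁻¹ * (i * i) := by group
    _ = i * x⁻¹ := by rw [hi, mul_one]

/-- The products of two conjugates of `i`. -/
def prods (i : G) : Set G := {n | ∃ g h : G, n = (h * i * h⁻¹) * (g * i * g⁻¹)}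

/-- The normal subgroup generated by the products of two conjugates of `i`. -/
def NN (i : G) : Subgroup G := normalClosure (prods i)

instance (i : G) : (NN i).Normal := normalClosure_normal

theorem conjugates_prods {i n : G} (hn : n ∈ Group.conjugatesOfSet (prods i)) : n ∈ prods i := by
  obtain ⟨a, ⟨g, h, rfl⟩, han⟩ := Group.mem_conjugatesOfSet_iff.1 hn
  obtain ⟨k, rfl⟩ := isConj_iff.1 han
  exact ⟨k * g, k * h, by group⟩

theorem isConj_mul_prod [Finite G] {x i : G} (hi : i * i = 1) (hx : (cs x).Coprime (cs i))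
    (hw : (cs (x * i)).Coprime (cs i)) (g h : G) : IsConj (x * ((h * i * h⁻¹) * (g * i * g⁻¹))) x := by
  obtain ⟨c, hc, hch⟩ := pairs hx h
  rw [hch]
  have h1 : IsConj (x * ((c * i * c⁻¹) * (g * i * g⁻¹))) (x * i * ((c⁻¹ * g) * i * (c⁻¹ * g)⁻¹)) := by
    refine isConj_iff.2 ⟨c⁻¹, ?_⟩
    calc c⁻¹ * (x * ((c * i * c⁻¹) * (g * i * g⁻¹))) * c⁻¹⁻¹
        = (c⁻¹ * x * c) * i * ((c⁻¹ * g) * i * (c⁻¹ * g)⁻¹) := by group
      _ = _ := by rw [show c⁻¹ * x * c = x by rw [mul_assoc, ← hc.eq]; group]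
  have h2 := isConj_mul hw (c⁻¹ * g)
  rw [mul_assoc x i i, hi, mul_one] at h2
  exact h1.trans h2

theorem isConj_mul_NN [Finite G] {x i : G} (hi : i * i = 1) (hx : (cs x).Coprime (cs i))
    (hw : (cs (x * i)).Coprime (cs i)) {n : G} (hn : n ∈ NN i) : ∀ y : G, IsConj x y → IsConj x (y * n) := by
  induction hn using closure_induction with
  | mem n hn =>
    obtain ⟨g, h, rfl⟩ := conjugates_prods hn
    intro y hy
    obtain ⟨k, rfl⟩ := isConj_iff.1 hy
    have h1 := isConj_mul_prod hi hx hw (k⁻¹ * g) (k⁻¹ * h)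
    refine h1.symm.trans (isConj_iff.2 ⟨k, by group⟩)
  | one => intro y hy; rwa [mul_one]
  | mul a b _ _ ha hb => intro y hy; rw [← mul_assoc]; exact hb _ (ha y hy)
  | inv a _ ha =>
    have h1 : ∀ k : ℕ, ∀ y : G, IsConj x y → IsConj x (y * a ^ k) := by
      intro k
      induction k with
      | zero => intro y hy; simpa using hy
      | succ k ih => intro y hy; rw [pow_succ, ← mul_assoc]; exact ha _ (ih y hy)
    have h2 : a⁻¹ = a ^ (orderOf a - 1) := by
      apply inv_eq_of_mul_eq_one_left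
      rw [← pow_succ, Nat.sub_add_cancel (orderOf_pos a), pow_orderOf_eq_one]
    rw [h2]
    exact h1 _

theorem card_dvd_cs [Finite G] {x : G} {N : Subgroup G}
    (h : ∀ n ∈ N, ∀ y : G, IsConj x y → IsConj x (y * n)) : Nat.card N ∣ cs x := by
  rw [cs, ← Cfsg.Agent.Lib.ModFour.card_isConj]
  have h1 : {y : G | IsConj x y} = (QuotientGroup.mk : G → G ⧸ N) ⁻¹' ((QuotientGroup.mk : G → G ⧸ N) '' {y : G | IsConj x y}) := by
    ext y
    constructor
    · intro hy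
      exact ⟨y, hy, rfl⟩
    · rintro ⟨y', hy', hyy⟩
      have h2 : y'⁻¹ * y ∈ N := QuotientGroup.eq.1 hyy
      have h3 := h _ h2 y' hy'
      rwa [← mul_assoc, mul_inv_cancel, one_mul] at h3
  have h2 : Nat.card {y : G // IsConj x y} =
      Nat.card N * Nat.card ((QuotientGroup.mk : G → G ⧸ N) '' {y : G | IsConj x y}) := by
    rw [← Nat.card_prod]
    refine Nat.card_congr ((Equiv.setCongr h1).trans (QuotientGroup.preimageMkEquivSubgroupProdSet N _))
  rw [h2]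
  exact dvd_mul_right _ _

/-- The case where `i` inverts `x`. -/
theorem odd_of_inverts [Finite G] {x i : G} (hi : i * i = 1) (hx : (cs x).Coprime (cs i))
    (hxo : Odd (orderOf x)) (hxi : (x * i) * (x * i) = 1) : Odd (Nat.card (normalClosure {x})) := by
  have ii : i⁻¹ = i := eq_inv_of_sq hi
  have h1 : i * x * i⁻¹ = x⁻¹ := by
    rw [ii]
    apply eq_inv_of_mul_eq_one_right
    calc x * (i * x * i) = x * i * (x * i) := by group
      _ = 1 := hxi
  -- `i` inverts every conjugate of `x`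
  have h2 : ∀ g : G, i * (g * x * g⁻¹) * i⁻¹ = (g * x * g⁻¹)⁻¹ := by
    intro g
    obtain ⟨c, hc, hgc⟩ := pairs hx g⁻¹
    have h3 : (g⁻¹ * i * g⁻¹⁻¹) * x * (g⁻¹ * i * g⁻¹⁻¹)⁻¹ = x⁻¹ := by
      rw [hgc]
      have h4 : c⁻¹ * x * c = x := by rw [mul_assoc, ← hc.eq]; group
      calc c * i * c⁻¹ * x * (c * i * c⁻¹)⁻¹ = c * (i * (c⁻¹ * x * c) * i⁻¹) * c⁻¹ := by group
        _ = (c * x * c⁻¹)⁻¹ := by rw [h4, h1]; group
        _ = x⁻¹ := by rw [conj_eq_of_commute hc]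
    calc i * (g * x * g⁻¹) * i⁻¹ = g * ((g⁻¹ * i * g⁻¹⁻¹) * x * (g⁻¹ * i * g⁻¹⁻¹)⁻¹) * g⁻¹ := by group
      _ = (g * x * g⁻¹)⁻¹ := by rw [h3]; group
  refine odd_card_normalClosure hxo fun g => ?_
  apply commute_of_pow_two hxo (k := 1)
  rw [pow_one, pow_two]
  -- `x * (g x g⁻¹) * x⁻¹` is a conjugate of `x`
  have h3 : i * (x * (g * x * g⁻¹) * x⁻¹) * i⁻¹ = (x * (g * x * g⁻¹) * x⁻¹)⁻¹ := by
    have h4 := h2 (x * g)
    have h5 : x * g * x * (x * g)⁻¹ = x * (g * x * g⁻¹) * x⁻¹ := by group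
    rwa [h5] at h4
  have h4 : i * (x * (g * x * g⁻¹) * x⁻¹) * i⁻¹ = x⁻¹ * (g * x * g⁻¹)⁻¹ * x := by
    calc i * (x * (g * x * g⁻¹) * x⁻¹) * i⁻¹
        = (i * x * i⁻¹) * (i * (g * x * g⁻¹) * i⁻¹) * (i * x * i⁻¹)⁻¹ := by group
      _ = x⁻¹ * (g * x * g⁻¹)⁻¹ * x := by rw [h1, h2]; group
  rw [h4] at h3
  have h5 : x * x * (g * x * g⁻¹) * (x * x)⁻¹ = g * x * g⁻¹ := by
    have h6 : x⁻¹ * (g * x * g⁻¹) * x = x * (g * x * g⁻¹) * x⁻¹ := by
      calc x⁻¹ * (g * x * g⁻¹) * x = (x⁻¹ * (g * x * g⁻¹)⁻¹ * x)⁻¹ := by group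
        _ = (x * (g * x * g⁻¹) * x⁻¹)⁻¹⁻¹ := by rw [h3]
        _ = _ := inv_inv _
    calc x * x * (g * x * g⁻¹) * (x * x)⁻¹ = x * (x * (g * x * g⁻¹) * x⁻¹) * x⁻¹ := by group
      _ = x * (x⁻¹ * (g * x * g⁻¹) * x) * x⁻¹ := by rw [h6]
      _ = g * x * g⁻¹ := by group
  exact mul_inv_eq_iff_eq_mul.1 h5

theorem sq_ne_one_of_odd {x : G} (hxo : Odd (orderOf x)) (hx1 : x ≠ 1) : x * x ≠ 1 :=
  fun h => hx1 (eq_one_of_odd_sq hxo h)

namespace Hyp

variable [Finite G] {i : G}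

/-- no nontrivial real element of odd order commutes with `i`, if `O(G) = 1` -/
theorem not_commute (H : Hyp i) (hO : ∀ N : Subgroup G, N.Normal → Odd (Nat.card N) → N = ⊥)
    (hi : ∃ g : G, g * i * g⁻¹ ≠ i) {x : G} (hxo : Odd (orderOf x)) (hx : IsConj x x⁻¹) (hx1 : x ≠ 1) :
    ¬ Commute x i := by
  intro hxi
  have hcx := H.cop x hx (sq_ne_one_of_odd hxo hx1)
  -- `(x * i)² ≠ 1`
  have hw : (x * i) * (x * i) ≠ 1 := by
    intro h
    have h1 : x * i * (x * i) = x * x := by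
      calc x * i * (x * i) = x * (i * x) * i := by group
        _ = x * x * (i * i) := by rw [← hxi.eq]; group
        _ = x * x := by rw [H.i2, mul_one]
    rw [h1] at h
    exact sq_ne_one_of_odd hxo hx1 h
  have hcw := H.cop (x * i) (isConj_mul_inv H.i2 hcx hx) hw
  -- all conjugates of `i` commute with `x`
  have h1 : ∀ g : G, Commute x (g * i * g⁻¹) := by
    intro g
    obtain ⟨c, hc, hg⟩ := pairs hcx g
    rw [hg]
    have := (Commute.conj_iff c).2 hxi
    rwa [conj_eq_of_commute hc] at this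
  have h2 : ∀ n ∈ NN i, Commute x n := by
    intro n hn
    induction hn using closure_induction with
    | mem n hn =>
      obtain ⟨g, h, rfl⟩ := conjugates_prods hn
      exact (h1 h).mul_right (h1 g)
    | one => exact Commute.one_right x
    | mul a b _ _ ha hb => exact ha.mul_right hb
    | inv a _ ha => exact ha.inv_right
  -- the elements of `NN i` have odd order
  have h3 : ∀ n ∈ NN i, n ^ orderOf x = 1 := by
    intro n hn
    have h4 := isConj_mul_NN H.i2 hcx hcw hn x (IsConj.refl x)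
    obtain ⟨k, hk⟩ := isConj_iff.1 h4
    have h5 : (x * n) ^ orderOf x = 1 := by
      rw [← hk, conj_pow, pow_orderOf_eq_one]; group
    rwa [(h2 n hn).mul_pow, pow_orderOf_eq_one, one_mul] at h5
  have h4 : Odd (Nat.card (NN i)) := by
    rw [← Nat.not_even_iff_odd, even_iff_two_dvd]
    intro h2
    obtain ⟨n, hn⟩ := exists_prime_orderOf_dvd_card' 2 h2
    have h5 : orderOf n ∣ orderOf x := orderOf_dvd_of_pow_eq_one (Subtype.ext (by
      simpa using h3 n n.2))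
    rw [hn, ← even_iff_two_dvd, ← Nat.not_odd_iff_even] at h5
    exact h5 hxo
  have h5 := hO (NN i) inferInstance h4
  obtain ⟨g, hg⟩ := hi
  have h6 : (1 * i * 1⁻¹) * (g * i * g⁻¹) ∈ NN i := subset_normalClosure ⟨g, 1, rfl⟩
  rw [h5, mem_bot] at h6
  apply hg
  have h7 : i * (g * i * g⁻¹) = 1 := by simpa [mul_assoc] using h6
  have h8 := eq_inv_of_mul_eq_one_right h7
  rw [h8, eq_inv_of_sq H.i2]

/-- **The property `RR` when `O(G) = 1`.** -/
theorem rr (H : Hyp i) (hO : ∀ N : Subgroup G, N.Normal → Odd (Nat.card N) → N = ⊥)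
    (hi : ∃ g : G, g * i * g⁻¹ ≠ i) : RR G := by
  have hfact : Fact (Nat.Prime 2) := ⟨Nat.prime_two⟩
  have hidx : ¬ 2 ∣ (centralizer ({i} : Set G)).index := by
    rw [← even_iff_two_dvd, Nat.not_even_iff_odd]; exact H.odd
  obtain ⟨T, hT⟩ := Cfsg.Agent.Transfer.AbelianHall.exists_sylow_le 2 _ hidx
  -- `T` is normal in `C(i)`
  let T' : Sylow 2 (centralizer ({i} : Set G)) := T.subtype hT
  have hnorm : (T' : Subgroup (centralizer ({i} : Set G))).Normal := by
    rw [← Cfsg.Agent.S3861.result T']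
    intro x hx1 hxo hx
    obtain ⟨g, hg⟩ := isConj_iff.1 hx
    have hx' : IsConj (x : G) (x : G)⁻¹ := isConj_iff.2 ⟨g, congrArg Subtype.val hg⟩
    exact H.not_commute hO hi (by rw [Subgroup.orderOf_coe]; exact hxo) hx' (fun h => hx1 (Subtype.ext h))
      (mem_cent.1 x.2)
  have hCN : ∀ m : G, Commute m i → m • T = T := by
    intro m hm
    rw [Sylow.smul_eq_iff_mem_normalizer]
    apply mem_normalizer_of_forall
    intro v hv
    have h1 : (⟨v, hT hv⟩ : centralizer ({i} : Set G)) ∈ (T' : Subgroup (centralizer ({i} : Set G))) := hv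
    exact hnorm.conj_mem _ h1 ⟨m, mem_cent.2 hm⟩
  intro y hyo hy P Q
  by_cases hy1 : y = 1
  · obtain ⟨c, hc⟩ := MulAction.exists_smul_eq G P Q
    exact ⟨c, by rw [hy1]; exact Commute.one_right c, hc⟩
  have hcy := H.cop y hy (sq_ne_one_of_odd hyo hy1)
  have key : ∀ P : Sylow 2 G, ∃ c : G, Commute c y ∧ c • T = P := by
    intro P
    obtain ⟨g, hg⟩ := MulAction.exists_smul_eq G T P
    obtain ⟨c, hc, m, hm, rfl⟩ := Cfsg.Agent.S0007.exists_mul_eq _ _ hcy g
    refine ⟨c, mem_cent.1 hc, ?_⟩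
    rw [← hg, mul_smul, hCN m (mem_cent.1 hm)]
  obtain ⟨c, hc, hcP⟩ := key P
  obtain ⟨d, hd, hdQ⟩ := key Q
  refine ⟨d * c⁻¹, hd.mul_left hc.inv_left, ?_⟩
  rw [mul_smul, ← hcP, inv_smul_smul, hdQ]

end Hyp

/-! ### the reduction modulo `O(G)` -/

theorem cs_mk_dvd [Finite G] (N : Subgroup G) [N.Normal] (x : G) : cs (QuotientGroup.mk x : G ⧸ N) ∣ cs x := by
  have h1 : (centralizer ({x} : Set G)).map (QuotientGroup.mk' N) ≤
      centralizer ({(QuotientGroup.mk x : G ⧸ N)} : Set (G ⧸ N)) := by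
    rintro _ ⟨c, hc, rfl⟩
    exact mem_cent.2 ((mem_cent.1 hc).map (QuotientGroup.mk' N))
  exact (Subgroup.index_dvd_of_le h1).trans (Subgroup.index_map_dvd _ (QuotientGroup.mk'_surjective N))

theorem Hyp.quotient [Finite G] {i : G} (H : Hyp i) (N : Subgroup G) [N.Normal] (hN : Odd (Nat.card N)) :
    Hyp (QuotientGroup.mk i : G ⧸ N) where
  i2 := by rw [← QuotientGroup.mk_mul, H.i2, QuotientGroup.mk_one]
  odd := Odd.of_dvd_nat H.odd (cs_mk_dvd N i)
  cop := by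
    intro q hq hqq
    obtain ⟨x, rfl, hx⟩ := exists_real_lift N hN q hq
    have h1 := H.cop x hx (fun h => hqq (by rw [← QuotientGroup.mk_mul, h, QuotientGroup.mk_one]))
    exact Nat.Coprime.of_dvd (cs_mk_dvd N x) (cs_mk_dvd N i) h1

/-- **The theorem on `i`.** -/
theorem Hyp.isSolvable [Finite G] {i : G} (H : Hyp i) (hi : ∃ g : G, g * i * g⁻¹ ≠ i) : Group.IsSolvable G := by
  obtain ⟨N, hNn, hNo, hNmax⟩ : ∃ N : Subgroup G, N.Normal ∧ Odd (Nat.card N) ∧
      ∀ M : Subgroup G, M.Normal → Odd (Nat.card M) → M ≤ N := by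
    refine ⟨Cfsg.pPrimeCore 2 G, Cfsg.Agent.Lib.Cores.pPrimeCore_normal 2, ?_, ?_⟩
    · exact Nat.coprime_two_right.1 (Cfsg.Agent.Lib.Cores.pPrimeCore_coprime 2)
    · intro M hM hMo
      exact Cfsg.Agent.Lib.Cores.le_pPrimeCore hM (Nat.coprime_two_right.2 hMo)
  have hO : ∀ M : Subgroup (G ⧸ N), M.Normal → Odd (Nat.card M) → M = ⊥ := by
    intro M hM hMo
    have h1 : (M.comap (QuotientGroup.mk' N)).Normal := hM.comap _
    have h2 : Odd (Nat.card (M.comap (QuotientGroup.mk' N))) := by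
      have h3 : Nat.card (M.comap (QuotientGroup.mk' N)) = Nat.card N * Nat.card M := by
        rw [← Nat.card_prod]
        exact Nat.card_congr (QuotientGroup.preimageMkEquivSubgroupProdSet N (M : Set (G ⧸ N)))
      rw [h3]
      exact hNo.mul hMo
    have h3 := hNmax _ h1 h2
    rw [eq_bot_iff]
    intro q hq
    obtain ⟨x, rfl⟩ := QuotientGroup.mk_surjective q
    rw [mem_bot, QuotientGroup.eq_one_iff]
    exact h3 hq
  have hsolv : RR (G ⧸ N) → Group.IsSolvable G := fun h =>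
    (Group.isSolvable_iff_subgroup_quotient N).2 ⟨Cfsg.Agent.S0205.result hNo, h.isSolvable⟩
  by_cases hi' : ∃ g : G ⧸ N, g * (QuotientGroup.mk i) * g⁻¹ ≠ QuotientGroup.mk i
  · exact hsolv ((H.quotient N hNo).rr hO hi')
  push Not at hi'
  have hcen : ∀ g : G, i * (g * i * g⁻¹) ∈ N := by
    intro g
    rw [← QuotientGroup.eq_one_iff]
    have h1 : (QuotientGroup.mk (i * (g * i * g⁻¹)) : G ⧸ N) =
        QuotientGroup.mk i * (QuotientGroup.mk g * QuotientGroup.mk i * (QuotientGroup.mk g)⁻¹) := rfl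
    rw [h1, hi', ← QuotientGroup.mk_mul, H.i2, QuotientGroup.mk_one]
  have hNN : NN i ≤ N := by
    apply normalClosure_le_normal
    rintro _ ⟨g, h, rfl⟩
    have h1 : (h * i * h⁻¹) * (g * i * g⁻¹) = h * (i * ((h⁻¹ * g) * i * (h⁻¹ * g)⁻¹)) * h⁻¹ := by group
    rw [SetLike.mem_coe, h1]
    exact hNn.conj_mem _ (hcen _) h
  apply hsolv
  intro q hqo hq P Q
  obtain ⟨x, rfl, hxo, hx⟩ := exists_real_odd_lift N (Or.inl hNo) q hqo hq
  have hxN : x ∈ N := by
    by_cases hx1 : x = 1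
    · rw [hx1]; exact one_mem _
    have hcx := H.cop x hx (sq_ne_one_of_odd hxo hx1)
    by_cases hw : (x * i) * (x * i) = 1
    · exact hNmax _ normalClosure_normal (odd_of_inverts H.i2 hcx hxo hw) (subset_normalClosure rfl)
    · exfalso
      have hcw := H.cop (x * i) (isConj_mul_inv H.i2 hcx hx) hw
      have h1 : Nat.card (NN i) ∣ cs x := card_dvd_cs fun n hn => isConj_mul_NN H.i2 hcx hcw hn
      -- `NN i` is transitive on the conjugates of `i`
      have h2 : ∀ g : G, ∃ n ∈ NN i, n * i * n⁻¹ = g * i * g⁻¹ := by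
        intro g
        have h3 : i * (g * i * g⁻¹) ∈ NN i := subset_normalClosure ⟨g, 1, by group⟩
        have qg : g * i * g⁻¹ * (g * i * g⁻¹) = 1 := sq_of_conj H.i2 (isConj_iff.2 ⟨g, rfl⟩)
        have h4 : Odd (orderOf (i * (g * i * g⁻¹))) := by
          have h5 : orderOf (i * (g * i * g⁻¹)) ∣ Nat.card N := by
            rw [← Subgroup.orderOf_mk (i * (g * i * g⁻¹)) (hcen g)]
            exact orderOf_dvd_natCard _
          exact Odd.of_dvd_nat hNo h5
        obtain ⟨k, hk⟩ := exists_sqrt h4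
        have hk' : i * (i * (g * i * g⁻¹)) ^ k * i⁻¹ = ((i * (g * i * g⁻¹)) ^ k)⁻¹ :=
          inv_pow (inverts_mul H.i2 qg) k
        refine ⟨((i * (g * i * g⁻¹)) ^ k)⁻¹, inv_mem (pow_mem h3 k), ?_⟩
        calc ((i * (g * i * g⁻¹)) ^ k)⁻¹ * i * ((i * (g * i * g⁻¹)) ^ k)⁻¹⁻¹
            = i * (i * (g * i * g⁻¹)) ^ k * i⁻¹ * i * (i * (g * i * g⁻¹)) ^ k := by rw [hk', inv_inv]
          _ = i * ((i * (g * i * g⁻¹)) ^ k * (i * (g * i * g⁻¹)) ^ k) := by group
          _ = i * i * (g * i * g⁻¹) := by rw [hk]; group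
          _ = g * i * g⁻¹ := by rw [H.i2, one_mul]
      have h3 : cs i ∣ Nat.card (NN i) := by
        have h4 : cs i = Nat.card {y : G // ∃ n ∈ NN i, n * i * n⁻¹ = y} := by
          rw [cs, ← Cfsg.Agent.Lib.ModFour.card_isConj]
          refine Nat.card_congr (Equiv.subtypeEquivRight fun y => ?_)
          constructor
          · intro hy
            obtain ⟨g, rfl⟩ := isConj_iff.1 hy
            exact h2 g
          · rintro ⟨n, -, hn⟩
            exact isConj_iff.2 ⟨n, hn⟩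
        rw [h4, Cfsg.Agent.OddHalf.D9.EEight.Count.orb_card]
        exact relIndex_dvd_card _ _
      have h5 : cs i = 1 := Nat.dvd_one.1 (hcx ▸ Nat.dvd_gcd (h3.trans h1) dvd_rfl)
      obtain ⟨g, hg⟩ := hi
      apply hg
      have h6 : g ∈ centralizer ({i} : Set G) := by
        rw [Subgroup.index_eq_one.1 h5]; exact mem_top g
      exact conj_eq_of_commute (mem_cent.1 h6)
  have hq1 : (QuotientGroup.mk x : G ⧸ N) = 1 := (QuotientGroup.eq_one_iff x).2 hxN
  obtain ⟨c, hc⟩ := MulAction.exists_smul_eq (G ⧸ N) P Q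
  exact ⟨c, by rw [hq1]; exact Commute.one_right c, hc⟩

end Cfsg.Agent.H537.RealSize
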