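import Cfsg.Agent.H537.RealTrans
import Cfsg.Agent.S0200
import Cfsg.Agent.S0205
import Mathlib.GroupTheory.Solvable

/-!
# H537: a solvability criterion

`RR G`: the centraliser of every real element of odd order is transitive on the Sylow 2-subgroups of `G`.

* `RR.isSolvable` : a finite group with `RR` is solvable;
* `exists_real_lift` : real elements lift modulo normal subgroups of odd order;
* `exists_real_odd_lift` : real elements of odd order lift modulo normal subgroups of odd order and modulo normal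
  2-subgroups.
-/

set_option autoImplicit false

namespace Cfsg.Agent.H537.RealSolv

open Subgroup Cfsg.Agent.H537.OddTransp Cfsg.Agent.H537.RealTrans
open scoped Pointwise

variable {G : Type*} [Group G]

/-- The centraliser of every real element of odd order is transitive on the Sylow 2-subgroups. -/
def RR (G : Type*) [Group G] : Prop :=
  ∀ y : G, Odd (orderOf y) → IsConj y y⁻¹ → ∀ P Q : Sylow 2 G, ∃ c : G, Commute c y ∧ c • P = Q

theorem conj_odd_pow {t x : G} (h : t * x * t⁻¹ = x⁻¹) (m : ℕ) :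
    t ^ (2 * m + 1) * x * (t ^ (2 * m + 1))⁻¹ = x⁻¹ := by
  have h' : t * x⁻¹ * t⁻¹ = x := by
    calc t * x⁻¹ * t⁻¹ = (t * x * t⁻¹)⁻¹ := by group
      _ = x := by rw [h, inv_inv]
  induction m with
  | zero => simpa using h
  | succ m ih =>
    rw [show 2 * (m + 1) + 1 = 1 + 1 + (2 * m + 1) by ring, pow_add, pow_add, pow_one]
    calc t * t * t ^ (2 * m + 1) * x * (t * t * t ^ (2 * m + 1))⁻¹
        = t * (t * (t ^ (2 * m + 1) * x * (t ^ (2 * m + 1))⁻¹) * t⁻¹) * t⁻¹ := by group
      _ = x⁻¹ := by rw [ih, h', h]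

/-- **Real elements lift modulo a normal subgroup of odd order.** -/
theorem exists_real_lift [Finite G] (N : Subgroup G) [N.Normal] (hN : Odd (Nat.card N)) (q : G ⧸ N)
    (hq : IsConj q q⁻¹) : ∃ x : G, (QuotientGroup.mk x : G ⧸ N) = q ∧ IsConj x x⁻¹ := by
  obtain ⟨t₀, ht₀⟩ := isConj_iff.1 hq
  obtain ⟨t₁, rfl⟩ := QuotientGroup.mk_surjective t₀
  obtain ⟨k, m, hm, hkm⟩ := Nat.exists_eq_two_pow_mul_odd (orderOf_pos t₁).ne'
  obtain ⟨r, rfl⟩ := hm
  obtain ⟨t, ht⟩ : ∃ t : G, t = t₁ ^ (2 * r + 1) := ⟨_, rfl⟩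
  have htk : t ^ 2 ^ k = 1 := by rw [ht, ← pow_mul, mul_comm, ← hkm, pow_orderOf_eq_one]
  have htq : (QuotientGroup.mk t : G ⧸ N) * q * (QuotientGroup.mk t)⁻¹ = q⁻¹ := by
    rw [ht, QuotientGroup.mk_pow]
    exact conj_odd_pow ht₀ r
  have htq' : (QuotientGroup.mk t : G ⧸ N) * q⁻¹ * (QuotientGroup.mk t)⁻¹ = q := by
    have h1 : (QuotientGroup.mk t : G ⧸ N) * q⁻¹ * (QuotientGroup.mk t)⁻¹ =
        ((QuotientGroup.mk t : G ⧸ N) * q * (QuotientGroup.mk t)⁻¹)⁻¹ := by group
    rw [h1, htq, inv_inv]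
  have htq'' : (QuotientGroup.mk t : G ⧸ N)⁻¹ * q⁻¹ * (QuotientGroup.mk t) = q := by
    calc (QuotientGroup.mk t : G ⧸ N)⁻¹ * q⁻¹ * (QuotientGroup.mk t)
        = (QuotientGroup.mk t : G ⧸ N)⁻¹ * (QuotientGroup.mk t * q * (QuotientGroup.mk t)⁻¹) *
            (QuotientGroup.mk t) := by rw [htq]
      _ = q := by group
  let α := {g : G // (QuotientGroup.mk g : G ⧸ N) = q}
  let σ : Equiv.Perm α :=
    { toFun := fun g => ⟨t * (g : G)⁻¹ * t⁻¹, by
        rw [QuotientGroup.mk_mul, QuotientGroup.mk_mul, QuotientGroup.mk_inv, QuotientGroup.mk_inv, g.2, htq']⟩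
      invFun := fun g => ⟨t⁻¹ * (g : G)⁻¹ * t, by
        rw [QuotientGroup.mk_mul, QuotientGroup.mk_mul, QuotientGroup.mk_inv, QuotientGroup.mk_inv, g.2, htq'']⟩
      left_inv := fun g => Subtype.ext (by
        change t⁻¹ * (t * (g : G)⁻¹ * t⁻¹)⁻¹ * t = g
        group)
      right_inv := fun g => Subtype.ext (by
        change t * (t⁻¹ * (g : G)⁻¹ * t)⁻¹ * t⁻¹ = g
        group) }
  have hσ2 : ∀ (j : ℕ) (g : α), (((σ ^ 2) ^ j) g : G) = t ^ (2 * j) * (g : G) * (t ^ (2 * j))⁻¹ := by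
    intro j
    induction j with
    | zero => intro g; simp
    | succ j ih =>
      intro g
      rw [pow_succ, Equiv.Perm.mul_apply, ih]
      have h1 : (((σ ^ 2) g : α) : G) = t * (t * (g : G)⁻¹ * t⁻¹)⁻¹ * t⁻¹ := by
        rw [pow_two, Equiv.Perm.mul_apply]
        rfl
      rw [h1, show 2 * (j + 1) = 2 * j + 1 + 1 by ring, pow_succ, pow_succ]
      group
  have hσk : σ ^ 2 ^ (k + 1) = 1 := by
    ext g
    have h1 : σ ^ 2 ^ (k + 1) = (σ ^ 2) ^ 2 ^ k := by rw [← pow_mul, pow_succ, mul_comm]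
    rw [h1, hσ2, mul_comm 2, pow_mul, htk, one_pow]
    simp
  have hp : IsPGroup 2 (zpowers σ) := isPGroup_zpowers_of_pow hσk
  have hcard : Nat.card α = Nat.card N := by
    obtain ⟨x₀, hx₀⟩ := QuotientGroup.mk_surjective q
    refine (Nat.card_congr ?_).symm
    exact
      { toFun := fun n => ⟨x₀ * n, by
          rw [QuotientGroup.mk_mul, hx₀, (QuotientGroup.eq_one_iff (n : G)).2 n.2, mul_one]⟩
        invFun := fun g => ⟨x₀⁻¹ * g, by
          rw [← QuotientGroup.eq_one_iff, QuotientGroup.mk_mul, QuotientGroup.mk_inv, g.2, hx₀, inv_mul_cancel]⟩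
        left_inv := fun n => Subtype.ext (by
          change x₀⁻¹ * (x₀ * (n : G)) = n
          group)
        right_inv := fun g => Subtype.ext (by
          change x₀ * (x₀⁻¹ * (g : G)) = g
          group) }
  have hfact : Fact (Nat.Prime 2) := ⟨Nat.prime_two⟩
  obtain ⟨g, hg⟩ := hp.nonempty_fixed_point_of_prime_not_dvd_card α (by
    rw [hcard]
    rwa [← even_iff_two_dvd, Nat.not_even_iff_odd])
  refine ⟨g, g.2, ?_⟩
  have h1 : σ g = g := hg ⟨σ, mem_zpowers σ⟩
  have h2 : t * (g : G)⁻¹ * t⁻¹ = g := congrArg Subtype.val h1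
  refine isConj_iff.2 ⟨t, ?_⟩
  calc t * (g : G) * t⁻¹ = (t * (g : G)⁻¹ * t⁻¹)⁻¹ := by group
    _ = (g : G)⁻¹ := by rw [h2]

/-- Real elements of odd order lift modulo a normal subgroup of odd order or a normal 2-subgroup. -/
theorem exists_real_odd_lift [Finite G] (N : Subgroup G) [N.Normal] (hN : Odd (Nat.card N) ∨ IsPGroup 2 N)
    (q : G ⧸ N) (hqo : Odd (orderOf q)) (hq : IsConj q q⁻¹) :
    ∃ x : G, (QuotientGroup.mk x : G ⧸ N) = q ∧ Odd (orderOf x) ∧ IsConj x x⁻¹ := by
  rcases hN with hN | hN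
  · obtain ⟨x, rfl, hx⟩ := exists_real_lift N hN q hq
    refine ⟨x, rfl, ?_, hx⟩
    have h1 : x ^ (orderOf (QuotientGroup.mk x : G ⧸ N)) ∈ N := by
      rw [← QuotientGroup.eq_one_iff, QuotientGroup.mk_pow, pow_orderOf_eq_one]
    have h2 : x ^ (orderOf (QuotientGroup.mk x : G ⧸ N) * Nat.card N) = 1 := by
      rw [pow_mul]
      have h3 : (⟨_, h1⟩ : N) ^ Nat.card N = 1 := pow_card_eq_one'
      exact congrArg Subtype.val h3
    exact Odd.of_dvd_nat (hqo.mul hN) (orderOf_dvd_of_pow_eq_one h2)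
  · obtain ⟨x, rfl, hxo⟩ := Cfsg.Agent.H466.RealLift.exists_odd_lift N q hqo
    refine ⟨x, rfl, hxo, ?_⟩
    have hcop : ∀ y : G, Odd (orderOf y) → (orderOf y).Coprime (Nat.card N) := by
      intro y hy
      obtain ⟨k, hk⟩ := IsPGroup.iff_card.1 hN
      rw [hk]
      exact Nat.Coprime.pow_right _ ((Nat.coprime_two_right).2 hy)
    apply Cfsg.Agent.H466.RealLift.isConj_of_quotient N (hcop x hxo) (hcop x⁻¹ (by rwa [orderOf_inv]))
    rw [QuotientGroup.mk_inv]
    exact hq

theorem smul_mapSurjective {H : Type*} [Group H] [Finite G] {f : G →* H} (hf : Function.Surjective f)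
    (S : Sylow 2 G) (a : G) :
    (f a) • (S.mapSurjective hf) = (a • S).mapSurjective hf := by
  apply Sylow.ext
  apply le_antisymm
  · intro q hq
    have hq' : q ∈ (f a) • (S.mapSurjective hf) := hq
    rw [mem_smul_sylow] at hq'
    obtain ⟨s, hs, hsq⟩ := hq'
    refine ⟨a * s * a⁻¹, ?_, ?_⟩
    · change a * s * a⁻¹ ∈ a • S
      rw [mem_smul_sylow]
      have : a⁻¹ * (a * s * a⁻¹) * a = s := by group
      rw [this]; exact hs
    · rw [map_mul, map_mul, map_inv, hsq]; group
  · rintro _ ⟨x, hx, rfl⟩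
    have hx' : x ∈ a • S := hx
    rw [mem_smul_sylow] at hx'
    change _ ∈ (f a) • (S.mapSurjective hf)
    rw [mem_smul_sylow]
    exact ⟨_, hx', by rw [map_mul, map_mul, map_inv]⟩

/-- every Sylow 2-subgroup of a quotient is the image of one -/
theorem exists_mapSurjective {H : Type*} [Group H] [Finite G] [Finite H] {f : G →* H}
    (hf : Function.Surjective f) (P : Sylow 2 H) : ∃ S : Sylow 2 G, S.mapSurjective hf = P := by
  obtain ⟨S⟩ : Nonempty (Sylow 2 G) := inferInstance
  obtain ⟨h, hh⟩ := MulAction.exists_smul_eq H (S.mapSurjective hf) P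
  obtain ⟨a, rfl⟩ := hf h
  exact ⟨a • S, by rw [← smul_mapSurjective, hh]⟩

/-- the property passes to quotients by normal subgroups of odd order and by normal 2-subgroups -/
theorem RR.quotient [Finite G] (h : RR G) (N : Subgroup G) [N.Normal] (hN : Odd (Nat.card N) ∨ IsPGroup 2 N) :
    RR (G ⧸ N) := by
  intro q hqo hq P Q
  obtain ⟨x, rfl, hxo, hx⟩ := exists_real_odd_lift N hN q hqo hq
  obtain ⟨P', rfl⟩ := exists_mapSurjective (QuotientGroup.mk'_surjective N) P
  obtain ⟨Q', rfl⟩ := exists_mapSurjective (QuotientGroup.mk'_surjective N) Q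
  obtain ⟨c, hc, hcP⟩ := h x hxo hx P' Q'
  refine ⟨QuotientGroup.mk' N c, hc.map (QuotientGroup.mk' N), ?_⟩
  rw [smul_mapSurjective, hcP]

theorem exists_involution [Finite G] (h2 : 2 ∣ Nat.card G) (T : Sylow 2 G) :
    ∃ z ∈ T, (∀ t ∈ T, Commute t z) ∧ orderOf z = 2 := by
  have hfact : Fact (Nat.Prime 2) := ⟨Nat.prime_two⟩
  have hT : 2 ∣ Nat.card T := T.dvd_card_of_dvd_card h2
  have hnt : Nontrivial T := by
    rw [← Finite.one_lt_card_iff_nontrivial]
    have := Nat.le_of_dvd Nat.card_pos hT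
    omega
  have hc := T.isPGroup'.center_nontrivial
  have h3 : 2 ∣ Nat.card (center T) := by
    obtain ⟨n, hn⟩ := IsPGroup.iff_card.1 (T.isPGroup'.to_subgroup (center T))
    have hn0 : n ≠ 0 := by
      rintro rfl
      rw [pow_zero] at hn
      have := Finite.one_lt_card_iff_nontrivial.2 hc
      omega
    rw [hn]
    exact dvd_pow_self 2 hn0
  obtain ⟨x, hx⟩ := exists_prime_orderOf_dvd_card' 2 h3
  refine ⟨((x : T) : G), (x : T).2, ?_, ?_⟩
  · intro t ht
    have := mem_center_iff.1 x.2 ⟨t, ht⟩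
    exact congrArg Subtype.val this
  · rw [Subgroup.orderOf_coe, Subgroup.orderOf_coe, hx]

theorem solvable_aux (n : ℕ) : ∀ (G : Type*) [Group G] [Finite G], Nat.card G = n → RR G → Group.IsSolvable G := by
  induction n using Nat.strong_induction_on with
  | _ n ih =>
    intro G _ _ hn h
    have hquot : ∀ N : Subgroup G, N.Normal → N ≠ ⊥ → (Odd (Nat.card N) ∨ IsPGroup 2 N) → Group.IsSolvable G := by
      intro N hNn hN1 hN
      have h1 : Nat.card (G ⧸ N) < n := by
        rw [← hn, Subgroup.card_eq_card_quotient_mul_card_subgroup N]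
        have h2 : 1 < Nat.card N := by
          rw [Finite.one_lt_card_iff_nontrivial]
          exact (Subgroup.nontrivial_iff_ne_bot N).2 hN1
        have h3 : 0 < Nat.card (G ⧸ N) := Nat.card_pos
        nlinarith
      have h2 : Group.IsSolvable (G ⧸ N) := ih _ h1 (G ⧸ N) rfl (h.quotient N hN)
      have h3 : Group.IsSolvable N := by
        rcases hN with hN | hN
        · exact Cfsg.Agent.S0205.result hN
        · have hfact : Fact (Nat.Prime 2) := ⟨Nat.prime_two⟩
          have := hN.isNilpotent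
          infer_instance
      exact (Group.isSolvable_iff_subgroup_quotient N).2 ⟨h3, h2⟩
    by_cases h2 : 2 ∣ Nat.card G
    · obtain ⟨T⟩ : Nonempty (Sylow 2 G) := inferInstance
      obtain ⟨z, hzT, hzc, hz2⟩ := exists_involution h2 T
      by_cases hO : ∀ N : Subgroup G, N.Normal → IsPGroup 2 N → z ∉ N
      · obtain ⟨y, hy1, hyo, hy⟩ := Cfsg.Agent.S0200.result z hz2 hO
        obtain ⟨N, hN, hN1, hNo⟩ := exists_normal_odd T hzT hzc
          (by rw [← pow_two, ← hz2, pow_orderOf_eq_one]) ⟨y, hy1, hyo, hy⟩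
          (fun y hyo hy P => h y hyo (isConj_iff.2 ⟨z, hy⟩) T P)
        exact hquot N hN hN1 (Or.inl hNo)
      · push Not at hO
        obtain ⟨N, hN, hNp, hzN⟩ := hO
        refine hquot N hN ?_ (Or.inr hNp)
        rintro rfl
        rw [mem_bot.1 hzN, orderOf_one] at hz2
        omega
    · apply Cfsg.Agent.S0205.result
      rwa [← Nat.not_even_iff_odd, even_iff_two_dvd]

/-- **A finite group in which the centralisers of the real elements of odd order are transitive on the Sylow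
2-subgroups is solvable.** -/
theorem RR.isSolvable {G : Type*} [Group G] [Finite G] (h : RR G) : Group.IsSolvable G :=
  solvable_aux _ G rfl h

end Cfsg.Agent.H537.RealSolv
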