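import Cfsg.Agent.H537.OddTransp
import Cfsg.Agent.H466.RealLift

/-!
# H537: centralisers of real elements of odd order that are transitive on the Sylow 2-subgroups

Let `z` be an involution in the centre of a Sylow 2-subgroup of the finite group `G`. If `z` inverts some
nontrivial element of odd order and the centraliser of every element of odd order inverted by `z` is transitive
on the Sylow 2-subgroups of `G`, then `G` has a nontrivial normal subgroup of odd order (`exists_normal_odd`).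
-/

set_option autoImplicit false

namespace Cfsg.Agent.H537.RealTrans

open Subgroup Cfsg.Agent.H537.OddTransp
open scoped Pointwise

variable {G : Type*} [Group G]

/-! ### one step modulo a normal 2-subgroup -/

theorem eq_one_of_odd_pow {n : G} {m k : ℕ} (hm : Odd m) (h1 : n ^ m = 1) (h2 : n ^ 2 ^ k = 1) : n = 1 := by
  have h3 : orderOf n ∣ m := orderOf_dvd_of_pow_eq_one h1
  have h4 : orderOf n ∣ 2 ^ k := orderOf_dvd_of_pow_eq_one h2
  have h5 : m.Coprime (2 ^ k) := Nat.Coprime.pow_right _ (Nat.coprime_two_right.2 hm)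
  exact orderOf_eq_one_iff.1 (Nat.dvd_one.1 (h5 ▸ Nat.dvd_gcd h3 h4))

theorem isPGroup_pow {V : Subgroup G} (hV : IsPGroup 2 V) {n : G} (hn : n ∈ V) : ∃ k : ℕ, n ^ 2 ^ k = 1 := by
  obtain ⟨k, hk⟩ := hV ⟨n, hn⟩
  exact ⟨k, by simpa using congrArg Subtype.val hk⟩

/-- an element of odd order is a power of each of its `2 ^ k`-th powers -/
theorem commute_of_pow_two {w v : G} (hw : Odd (orderOf w)) {k : ℕ} (h : Commute (w ^ 2 ^ k) v) : Commute w v := by
  have hc : (2 ^ k).Coprime (orderOf w) := Nat.Coprime.pow_left _ (Nat.coprime_two_left.2 hw)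
  obtain ⟨m, hm⟩ := exists_pow_eq_self_of_coprime hc
  rw [← hm]
  exact h.pow_left m

/-- **The step modulo a normal 2-subgroup `V`.** -/
theorem step [Finite G] (V : Subgroup G) [V.Normal] (hV : IsPGroup 2 V) (S : Sylow 2 G) {z : G} (hzS : z ∈ S)
    (hzc : ∀ t ∈ S, Commute t z) (hz2 : z * z = 1)
    {y : G} (hy1 : y ≠ 1) (hyo : Odd (orderOf y)) (hy : z * y * z⁻¹ = y⁻¹) (hyV : ∀ v ∈ V, Commute y v)
    (htr : ∀ P : Sylow 2 G, ∃ c : G, Commute c y ∧ c • S = P)
    (hmax : ∀ w : G, w ≠ 1 → Odd (orderOf w) → z * w * z⁻¹ = w⁻¹ → ∀ W : Subgroup G, IsPGroup 2 W → V ≤ W →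
      w ∈ normalizer (W : Set G) → W ≤ V)
    {e : G} (he : e * e = 1) (hez : Commute e z) : e ∈ V ∨ e * z ∈ V := by
  have hVS : V ≤ (S : Subgroup G) := by
    obtain ⟨P, hP⟩ := hV.exists_le_sylow
    obtain ⟨g, hg⟩ := MulAction.exists_smul_eq G P S
    intro v hv
    rw [← hg]
    change v ∈ g • P
    rw [mem_smul_sylow]
    apply hP
    have := Subgroup.Normal.conj_mem (inferInstance : V.Normal) v hv g⁻¹
    rwa [inv_inv] at this
  -- lifting
  have hlift : ∀ q : G ⧸ V, Odd (orderOf q) → (QuotientGroup.mk z : G ⧸ V) * q * (QuotientGroup.mk z)⁻¹ = q⁻¹ →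
      ∃ w : G, (QuotientGroup.mk w : G ⧸ V) = q ∧ Odd (orderOf w) ∧ z * w * z⁻¹ = w⁻¹ := by
    intro q hqo hq
    obtain ⟨w, rfl, hwo⟩ := Cfsg.Agent.H466.RealLift.exists_odd_lift V q hqo
    refine ⟨w, rfl, hwo, ?_⟩
    -- `n = z w z⁻¹ w`
    have hn : z * w * z⁻¹ * w ∈ V := by
      rw [← QuotientGroup.eq_one_iff]
      rw [QuotientGroup.mk_mul, QuotientGroup.mk_mul, QuotientGroup.mk_mul, QuotientGroup.mk_inv, hq,
        inv_mul_cancel]
    obtain ⟨k, hk⟩ := isPGroup_pow hV hn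
    set n := z * w * z⁻¹ * w with hndef
    have hzw : z * w * z⁻¹ = n * w⁻¹ := by rw [hndef]; group
    have hzV : ∀ v ∈ V, z * v * z⁻¹ = v := by
      intro v hv
      rw [← (hzc v (hVS hv)).eq]; group
    have hcV : ∀ v ∈ V, ∀ g : G, g * v * g⁻¹ ∈ V := fun v hv g => Subgroup.Normal.conj_mem inferInstance v hv g
    -- conjugation by `w * w` is conjugation by `n`
    have h1 : ∀ v ∈ V, w * v * w⁻¹ = n * (w⁻¹ * v * w) * n⁻¹ := by
      intro v hv
      have h2 := hzV _ (hcV v hv w)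
      have h3 : z * (w * v * w⁻¹) * z⁻¹ = (z * w * z⁻¹) * (z * v * z⁻¹) * (z * w * z⁻¹)⁻¹ := by group
      rw [h3, hzw, hzV v hv] at h2
      rw [← h2]; group
    have h2 : ∀ v ∈ V, (w * w) * v * (w * w)⁻¹ = n * v * n⁻¹ := by
      intro v hv
      have h3 := h1 _ (hcV v hv w)
      calc (w * w) * v * (w * w)⁻¹ = w * (w * v * w⁻¹) * w⁻¹ := by group
        _ = n * (w⁻¹ * (w * v * w⁻¹) * w) * n⁻¹ := h3
        _ = n * v * n⁻¹ := by group
    have h3 : ∀ j : ℕ, ∀ v ∈ V, (w * w) ^ j * v * ((w * w) ^ j)⁻¹ = n ^ j * v * (n ^ j)⁻¹ := by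
      intro j
      induction j with
      | zero => intro v _; simp
      | succ j ih =>
        intro v hv
        calc (w * w) ^ (j + 1) * v * ((w * w) ^ (j + 1))⁻¹
            = (w * w) ^ j * ((w * w) * v * (w * w)⁻¹) * ((w * w) ^ j)⁻¹ := by rw [pow_succ]; group
          _ = (w * w) ^ j * (n * v * n⁻¹) * ((w * w) ^ j)⁻¹ := by rw [h2 v hv]
          _ = n ^ j * (n * v * n⁻¹) * (n ^ j)⁻¹ := ih _ (hcV v hv n)
          _ = n ^ (j + 1) * v * (n ^ (j + 1))⁻¹ := by rw [pow_succ]; group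
    have h4 : ∀ v ∈ V, Commute w v := by
      intro v hv
      have h5 := h3 (2 ^ k) v hv
      rw [hk] at h5
      have h6 : Commute ((w * w) ^ 2 ^ k) v := by
        have h7 : (w * w) ^ 2 ^ k * v * ((w * w) ^ 2 ^ k)⁻¹ = v := by rw [h5]; group
        exact mul_inv_eq_iff_eq_mul.1 h7
      have h7 : (w * w) ^ 2 ^ k = w ^ 2 ^ (k + 1) := by
        rw [← pow_two, ← pow_mul, pow_succ, mul_comm]
      rw [h7] at h6
      exact commute_of_pow_two hwo h6
    -- `n` has odd order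
    have h5 : (z * w * z⁻¹) ^ orderOf w = 1 := by
      rw [conj_pow, pow_orderOf_eq_one]; group
    have h6 : n ^ orderOf w = 1 := by
      rw [hzw, (h4 n hn).symm.inv_right.mul_pow] at h5
      rw [_root_.inv_pow, pow_orderOf_eq_one, inv_one, mul_one] at h5
      exact h5
    have h7 : n = 1 := eq_one_of_odd_pow hwo h6 hk
    rw [hzw, h7, one_mul]
  -- the data modulo `V`
  have hsurj := QuotientGroup.mk'_surjective V
  have hker : IsPGroup 2 (QuotientGroup.mk' V).ker := by rw [QuotientGroup.ker_mk']; exact hV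
  have hyV' : y ∉ V := by
    intro h
    obtain ⟨k, hk⟩ := isPGroup_pow hV h
    exact hy1 (eq_one_of_odd_pow hyo (pow_orderOf_eq_one y) hk)
  have hzV : z ∉ V := by
    intro h
    have h1 := hyV z h
    have h2 : z * y * z⁻¹ = y := by rw [← h1.eq]; group
    rw [hy] at h2
    exact hy1 (eq_one_of_odd_inv hyo h2.symm)
  have D : Dat (S.mapSurjective hsurj) (QuotientGroup.mk z : G ⧸ V) := by
    refine ⟨?_, ?_, ?_, ?_, ?_, ?_⟩
    · exact ⟨z, hzS, rfl⟩
    · rintro _ ⟨t, ht, rfl⟩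
      have := (hzc t ht).map (QuotientGroup.mk' V)
      exact this
    · rw [← QuotientGroup.mk_mul, hz2, QuotientGroup.mk_one]
    · rw [Ne, QuotientGroup.eq_one_iff]; exact hzV
    · intro q hq1 hqo hq W hW hqW
      obtain ⟨w, rfl, hwo, hw⟩ := hlift q hqo hq
      have hw1 : w ≠ 1 := by rintro rfl; exact hq1 rfl
      have h1 : IsPGroup 2 (W.comap (QuotientGroup.mk' V)) := hW.comap_of_ker_isPGroup _ hker
      have h2 : V ≤ W.comap (QuotientGroup.mk' V) := by
        intro v hv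
        rw [mem_comap]
        have : (QuotientGroup.mk' V) v = 1 := (QuotientGroup.eq_one_iff v).2 hv
        rw [this]; exact one_mem _
      have h3 : w ∈ normalizer ((W.comap (QuotientGroup.mk' V) : Subgroup G) : Set G) := by
        rw [mem_normalizer_iff]
        intro x
        rw [mem_comap, mem_comap, map_mul, map_mul, map_inv]
        exact (mem_normalizer_iff.1 hqW) _
      have h4 := hmax w hw1 hwo hw _ h1 h2 h3
      rw [eq_bot_iff]
      intro q hq
      obtain ⟨x, rfl⟩ := QuotientGroup.mk_surjective q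
      have h5 : x ∈ W.comap (QuotientGroup.mk' V) := hq
      rw [mem_bot, QuotientGroup.eq_one_iff]
      exact h4 h5
    · refine ⟨QuotientGroup.mk y, ?_, ?_, ?_, ?_⟩
      · rw [Ne, QuotientGroup.eq_one_iff]; exact hyV'
      · exact Odd.of_dvd_nat hyo (orderOf_map_dvd (QuotientGroup.mk' V) y)
      · rw [← QuotientGroup.mk_inv, ← QuotientGroup.mk_mul, ← QuotientGroup.mk_mul, hy, QuotientGroup.mk_inv]
      · intro P
        obtain ⟨g, hg⟩ := MulAction.exists_smul_eq (G ⧸ V) (S.mapSurjective hsurj) P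
        obtain ⟨g, rfl⟩ := QuotientGroup.mk_surjective g
        obtain ⟨c, hcy, hc⟩ := htr (g • S)
        refine ⟨QuotientGroup.mk c, hcy.map (QuotientGroup.mk' V), ?_⟩
        rw [← hg]
        have key : ∀ a : G, ((QuotientGroup.mk a : G ⧸ V) • (S.mapSurjective hsurj) : Sylow 2 (G ⧸ V)) =
            (a • S).mapSurjective hsurj := by
          intro a
          apply Sylow.ext
          apply le_antisymm
          · intro q hq
            have hq' : q ∈ (QuotientGroup.mk a : G ⧸ V) • (S.mapSurjective hsurj) := hq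
            rw [mem_smul_sylow] at hq'
            obtain ⟨s, hs, hsq⟩ := hq'
            refine ⟨a * s * a⁻¹, ?_, ?_⟩
            · change a * s * a⁻¹ ∈ a • S
              rw [mem_smul_sylow]
              have : a⁻¹ * (a * s * a⁻¹) * a = s := by group
              rw [this]; exact hs
            · have h1 : (QuotientGroup.mk' V) (a * s * a⁻¹) =
                  (QuotientGroup.mk a : G ⧸ V) * (QuotientGroup.mk' V) s * (QuotientGroup.mk a : G ⧸ V)⁻¹ := by
                rw [map_mul, map_mul, map_inv]; rfl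
              rw [h1, hsq]; group
          · rintro _ ⟨x, hx, rfl⟩
            have hx' : x ∈ a • S := hx
            rw [mem_smul_sylow] at hx'
            change _ ∈ (QuotientGroup.mk a : G ⧸ V) • (S.mapSurjective hsurj)
            rw [mem_smul_sylow]
            exact ⟨_, hx', by rw [map_mul, map_mul, map_inv]; rfl⟩
        rw [key, key, hc]
  have he' : (QuotientGroup.mk e : G ⧸ V) * QuotientGroup.mk e = 1 := by
    rw [← QuotientGroup.mk_mul, he, QuotientGroup.mk_one]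
  by_cases h1 : (QuotientGroup.mk e : G ⧸ V) = 1
  · exact Or.inl ((QuotientGroup.eq_one_iff e).1 h1)
  · right
    have h2 := D.eq_of_commute he' h1 (hez.map (QuotientGroup.mk' V))
    rw [← QuotientGroup.eq_one_iff, QuotientGroup.mk_mul, h2, ← QuotientGroup.mk_mul, hz2, QuotientGroup.mk_one]

/-! ### the theorem -/

theorem mem_normalizer_of_forall [Finite G] {V : Subgroup G} {g : G} (h : ∀ v ∈ V, g * v * g⁻¹ ∈ V) :
    g ∈ normalizer (V : Set G) := by
  have h1 : V.map (MulAut.conj g).toMonoidHom ≤ V := by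
    rintro _ ⟨x, hx, rfl⟩
    exact h x hx
  have h2 : V.map (MulAut.conj g).toMonoidHom = V :=
    Subgroup.eq_of_le_of_card_ge h1 (by rw [Subgroup.card_map_of_injective (MulAut.conj g).injective])
  rw [mem_normalizer_iff]
  intro x
  refine ⟨h x, fun hx => ?_⟩
  have hx' : g * x * g⁻¹ ∈ V := hx
  rw [← h2] at hx'
  obtain ⟨y, hy, hyx⟩ := hx'
  have h3 : g * y * g⁻¹ = g * x * g⁻¹ := hyx
  have : y = x := by simpa using h3
  rw [← this]
  exact hy

theorem commute_of_mem {T : Subgroup G} {z : G} (hzc : ∀ t ∈ T, Commute t z) {w x : G}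
    (hwo : Odd (orderOf w)) (hw : z * w * z⁻¹ = w⁻¹) (hx : x ∈ T) (hwx : w * x * w⁻¹ ∈ T) : Commute w x := by
  have h1 : z * x * z⁻¹ = x := by rw [← (hzc x hx).eq]; group
  have h2 : z * (w * x * w⁻¹) * z⁻¹ = w * x * w⁻¹ := by rw [← (hzc _ hwx).eq]; group
  have h3 : z * (w * x * w⁻¹) * z⁻¹ = (z * w * z⁻¹) * (z * x * z⁻¹) * (z * w * z⁻¹)⁻¹ := by group
  rw [h3, hw, h1, inv_inv] at h2
  apply commute_of_pow_two hwo (k := 1)
  rw [pow_one, pow_two]
  have h4 : w * w * x * (w * w)⁻¹ = x := by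
    calc w * w * x * (w * w)⁻¹ = w * (w * x * w⁻¹) * w⁻¹ := by group
      _ = w * (w⁻¹ * x * w) * w⁻¹ := by rw [h2]
      _ = x := by group
  exact mul_inv_eq_iff_eq_mul.1 h4

theorem card_le [Finite G] {T : Sylow 2 G} {z : G} (hzc : ∀ t ∈ T, Commute t z) {w : G}
    (hwo : Odd (orderOf w)) (hw : z * w * z⁻¹ = w⁻¹)
    (htr : ∀ P : Sylow 2 G, ∃ c : G, Commute c w ∧ c • T = P) {W : Subgroup G} (hW : IsPGroup 2 W)
    (hwW : w ∈ normalizer (W : Set G)) : Nat.card W ≤ Nat.card (T ⊓ centralizer {w} : Subgroup G) := by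
  obtain ⟨P, hP⟩ := hW.exists_le_sylow
  obtain ⟨c, hcw, hc⟩ := htr P
  have hT : ∀ x ∈ W, c⁻¹ * x * c ∈ T := by
    intro x hx
    have : x ∈ P := hP hx
    rw [← hc, mem_smul_sylow] at this
    exact this
  have h1 : W.map (MulAut.conj c⁻¹).toMonoidHom ≤ (T ⊓ centralizer {w} : Subgroup G) := by
    rintro _ ⟨x, hx, rfl⟩
    have h2 : (MulAut.conj c⁻¹).toMonoidHom x = c⁻¹ * x * c := by
      change c⁻¹ * x * c⁻¹⁻¹ = _
      rw [inv_inv]
    rw [h2]
    refine ⟨hT x hx, ?_⟩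
    change _ ∈ centralizer {w}
    rw [mem_centralizer_singleton_iff]
    have h3 : w * (c⁻¹ * x * c) * w⁻¹ ∈ T := by
      have h4 : w * (c⁻¹ * x * c) * w⁻¹ = c⁻¹ * (w * x * w⁻¹) * c := by
        have h5 : w * c⁻¹ = c⁻¹ * w := hcw.inv_left.symm.eq
        have h6 : c * w⁻¹ = w⁻¹ * c := hcw.inv_right.eq
        calc w * (c⁻¹ * x * c) * w⁻¹ = (w * c⁻¹) * x * (c * w⁻¹) := by group
          _ = _ := by rw [h5, h6]; group
      rw [h4]
      exact hT _ ((mem_normalizer_iff.1 hwW x).1 hx)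
    exact (commute_of_mem hzc hwo hw (hT x hx) h3).symm
  calc Nat.card W = Nat.card (W.map (MulAut.conj c⁻¹).toMonoidHom) := by
        rw [Subgroup.card_map_of_injective (MulAut.conj c⁻¹).injective]
    _ ≤ _ := Nat.card_le_card_of_injective _ (inclusion_injective h1)

/-- The normal closure of `y` has odd order if the conjugates of `y`, of odd order, commute. -/
theorem odd_card_normalClosure [Finite G] {y : G} (hyo : Odd (orderOf y))
    (hc : ∀ g : G, Commute y (g * y * g⁻¹)) : Odd (Nat.card (normalClosure {y})) := by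
  have hS : ∀ x ∈ Group.conjugatesOfSet {y}, ∃ g : G, x = g * y * g⁻¹ := by
    intro x hx
    obtain ⟨a, ha, hax⟩ := Group.mem_conjugatesOfSet_iff.1 hx
    rw [Set.mem_singleton_iff.1 ha] at hax
    obtain ⟨g, hg⟩ := isConj_iff.1 hax
    exact ⟨g, hg.symm⟩
  have hSS : ∀ x ∈ Group.conjugatesOfSet {y}, ∀ x' ∈ Group.conjugatesOfSet {y}, Commute x x' := by
    intro x hx x' hx'
    obtain ⟨g, rfl⟩ := hS x hx
    obtain ⟨h, rfl⟩ := hS x' hx'
    have h1 : h * y * h⁻¹ = g * ((g⁻¹ * h) * y * (g⁻¹ * h)⁻¹) * g⁻¹ := by group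
    rw [h1]
    exact (Commute.conj_iff _).2 (hc _)
  have hSA : ∀ x ∈ normalClosure {y}, ∀ x' ∈ Group.conjugatesOfSet {y}, Commute x x' := by
    intro x hx x' hx'
    induction hx using closure_induction with
    | mem x hx => exact hSS x hx x' hx'
    | one => exact Commute.one_left _
    | mul a b _ _ ha hb => exact ha.mul_left hb
    | inv a _ ha => exact ha.inv_left
  have hAA : ∀ x ∈ normalClosure {y}, ∀ x' ∈ normalClosure {y}, Commute x x' := by
    intro x hx x' hx'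
    induction hx' using closure_induction with
    | mem x' hx' => exact hSA x hx x' hx'
    | one => exact Commute.one_right x
    | mul a b _ _ ha hb => exact ha.mul_right hb
    | inv a _ ha => exact ha.inv_right
  have hAo : ∀ x ∈ normalClosure {y}, Odd (orderOf x) := by
    intro x hx
    induction hx using closure_induction with
    | mem x hx =>
      obtain ⟨g, rfl⟩ := hS x hx
      have h1 : orderOf (g * y * g⁻¹) = orderOf y := by
        have := orderOf_injective (MulAut.conj g).toMonoidHom (MulAut.conj g).injective y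
        simpa using this
      rw [h1]; exact hyo
    | one => rw [orderOf_one]; exact odd_one
    | mul a b ha' hb' ha hb =>
      have h1 : orderOf (a * b) ∣ orderOf a * orderOf b := (hAA a ha' b hb').orderOf_mul_dvd_mul_orderOf
      exact Odd.of_dvd_nat (ha.mul hb) h1
    | inv a _ ha => rw [orderOf_inv]; exact ha
  rw [← Nat.not_even_iff_odd, even_iff_two_dvd]
  intro h2
  obtain ⟨x, hx⟩ := exists_prime_orderOf_dvd_card' 2 h2
  have h3 := hAo x x.2
  rw [Subgroup.orderOf_coe, hx] at h3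
  exact absurd h3 (by decide)

/-- **The theorem.** -/
theorem exists_normal_odd [Finite G] (T : Sylow 2 G) {z : G} (hzT : z ∈ T) (hzc : ∀ t ∈ T, Commute t z)
    (hz2 : z * z = 1) (hex : ∃ y : G, y ≠ 1 ∧ Odd (orderOf y) ∧ z * y * z⁻¹ = y⁻¹)
    (htr : ∀ y : G, Odd (orderOf y) → z * y * z⁻¹ = y⁻¹ → ∀ P : Sylow 2 G, ∃ c : G, Commute c y ∧ c • T = P) :
    ∃ N : Subgroup G, N.Normal ∧ N ≠ ⊥ ∧ Odd (Nat.card N) := by
  -- the choice of `y`
  obtain ⟨y, ⟨hy1, hyo, hy⟩, hymax⟩ : ∃ y : G, (y ≠ 1 ∧ Odd (orderOf y) ∧ z * y * z⁻¹ = y⁻¹) ∧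
      ∀ w : G, (w ≠ 1 ∧ Odd (orderOf w) ∧ z * w * z⁻¹ = w⁻¹) →
        Nat.card (T ⊓ centralizer {w} : Subgroup G) ≤ Nat.card (T ⊓ centralizer {y} : Subgroup G) := by
    obtain ⟨y₀, hy₀⟩ := hex
    let X := {y : G // y ≠ 1 ∧ Odd (orderOf y) ∧ z * y * z⁻¹ = y⁻¹}
    have : Nonempty X := ⟨⟨y₀, hy₀⟩⟩
    obtain ⟨y, hy⟩ := Finite.exists_max (fun y : X => Nat.card (T ⊓ centralizer {(y : G)} : Subgroup G))
    exact ⟨y, y.2, fun w hw => hy ⟨w, hw⟩⟩
  obtain ⟨V, hVdef⟩ : ∃ V : Subgroup G, V = (T ⊓ centralizer {y} : Subgroup G) := ⟨_, rfl⟩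
  have hVT : ∀ v ∈ V, v ∈ T := fun v hv => by rw [hVdef] at hv; exact hv.1
  have hVy : ∀ v ∈ V, Commute y v := fun v hv => by
    rw [hVdef] at hv
    exact (mem_centralizer_singleton_iff.1 hv.2).symm
  have hV : IsPGroup 2 V := by
    rw [hVdef]
    exact T.isPGroup'.to_le inf_le_left
  have hVmem : ∀ v ∈ T, Commute y v → v ∈ V := by
    intro v hv h
    rw [hVdef]
    exact ⟨hv, mem_centralizer_singleton_iff.2 h.symm⟩
  -- the normaliser
  set H := normalizer (V : Set G) with hH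
  have hVH : V ≤ H := le_normalizer
  have hyH : y ∈ H := mem_normalizer_of_forall fun v hv => by
    have : y * v * y⁻¹ = v := by rw [(hVy v hv).eq]; group
    rw [this]; exact hv
  have hcH : ∀ e : G, (∀ t ∈ T, Commute t e) → e ∈ H := fun e he => mem_normalizer_of_forall fun v hv => by
    have : e * v * e⁻¹ = v := by rw [← (he v (hVT v hv)).eq]; group
    rw [this]; exact hv
  have hzH : z ∈ H := hcH z hzc
  have key : ∀ P : Sylow 2 G, V ≤ (P : Subgroup G) → ∃ c ∈ H, Commute c y ∧ c • T = P := by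
    intro P hVP
    obtain ⟨c, hcy, hc⟩ := htr y hyo hy P
    refine ⟨c, ?_, hcy, hc⟩
    rw [← inv_inv c]
    apply inv_mem
    apply mem_normalizer_of_forall
    intro v hv
    have h1 : v ∈ P := hVP hv
    rw [← hc, mem_smul_sylow] at h1
    rw [inv_inv]
    apply hVmem _ h1
    have h2 : c⁻¹ * v * c = c⁻¹ * v * c⁻¹⁻¹ := by rw [inv_inv]
    have h3 : y = c⁻¹ * y * c⁻¹⁻¹ := by
      rw [hcy.inv_left.eq]; group
    rw [h2, h3]
    exact (Commute.conj_iff _).2 (hVy v hv)
  have hVnorm : (V.subgroupOf H).Normal := by rw [hH]; infer_instance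
  have hV' : IsPGroup 2 (V.subgroupOf H) := hV.comap_of_injective _ H.subtype_injective
  -- every Sylow 2-subgroup of `H` is conjugate into `T`
  have key2 : ∀ P : Sylow 2 H, ∃ c : H, Commute (c : G) y ∧ ∀ x ∈ P, ((c⁻¹ * x * c : H) : G) ∈ T := by
    intro P
    have hVP : V.subgroupOf H ≤ (P : Subgroup H) := by
      obtain ⟨Q, hQ⟩ := hV'.exists_le_sylow
      obtain ⟨g, hg⟩ := MulAction.exists_smul_eq H Q P
      intro v hv
      rw [← hg]
      change v ∈ g • Q
      rw [mem_smul_sylow]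
      apply hQ
      have := hVnorm.conj_mem v hv g⁻¹
      rwa [inv_inv] at this
    have h1 : IsPGroup 2 ((P : Subgroup H).map H.subtype) := P.isPGroup'.map _
    obtain ⟨Q, hQ⟩ := h1.exists_le_sylow
    have hVQ : V ≤ (Q : Subgroup G) := by
      intro v hv
      exact hQ ⟨⟨v, hVH hv⟩, hVP hv, rfl⟩
    obtain ⟨c, hcH', hcy, hc⟩ := key Q hVQ
    refine ⟨⟨c, hcH'⟩, hcy, ?_⟩
    intro x hx
    have h2 : (x : G) ∈ Q := hQ ⟨x, hx, rfl⟩
    rw [← hc, mem_smul_sylow] at h2
    exact h2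
  have hTH : IsPGroup 2 ((T : Subgroup G).subgroupOf H) := T.isPGroup'.comap_of_injective _ H.subtype_injective
  obtain ⟨S, hS⟩ := hTH.exists_le_sylow
  have hST : (T : Subgroup G).subgroupOf H = S := by
    apply Subgroup.eq_of_le_of_card_ge hS
    obtain ⟨c, -, hc⟩ := key2 S
    have h1 : (S : Subgroup H).map (MulAut.conj c⁻¹).toMonoidHom ≤ (T : Subgroup G).subgroupOf H := by
      rintro _ ⟨x, hx, rfl⟩
      have h2 : (MulAut.conj c⁻¹).toMonoidHom x = c⁻¹ * x * c := by
        change c⁻¹ * x * c⁻¹⁻¹ = _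
        rw [inv_inv]
      rw [h2]
      exact hc x hx
    calc Nat.card S = Nat.card ((S : Subgroup H).map (MulAut.conj c⁻¹).toMonoidHom) := by
          rw [Subgroup.card_map_of_injective (MulAut.conj c⁻¹).injective]
      _ ≤ _ := Nat.card_le_card_of_injective _ (inclusion_injective h1)
  have hSmem : ∀ x : H, x ∈ S ↔ (x : G) ∈ T := by
    intro x
    change x ∈ (S : Subgroup H) ↔ _
    rw [← hST]
    exact Iff.rfl
  have htrS : ∀ P : Sylow 2 H, ∃ c : H, Commute c ⟨y, hyH⟩ ∧ c • S = P := by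
    intro P
    obtain ⟨c, hcy, hc⟩ := key2 P
    refine ⟨c, Subtype.ext hcy, ?_⟩
    apply Sylow.ext
    apply P.is_maximal' (c • S).isPGroup'
    intro x hx
    change x ∈ c • S
    rw [mem_smul_sylow, hSmem]
    exact hc x hx
  -- the involutions of the centre of `T`
  have hcent : ∀ e ∈ T, (∀ t ∈ T, Commute t e) → e * e = 1 → e * y * e⁻¹ = y ∨ e * y * e⁻¹ = y⁻¹ := by
    intro e heT hec he2
    have hmain := step (V.subgroupOf H) hV' S (z := ⟨z, hzH⟩) ((hSmem _).2 hzT)
      (fun t ht => Subtype.ext (hzc t ((hSmem t).1 ht))) (Subtype.ext hz2) (y := ⟨y, hyH⟩)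
      (fun h => hy1 (congrArg Subtype.val h)) (by rw [Subgroup.orderOf_mk]; exact hyo) (Subtype.ext hy)
      (fun v hv => Subtype.ext (hVy v hv)) htrS
      (by
        intro w hw1 hwo hw W hW hVW hwW
        have hw1' : (w : G) ≠ 1 := fun h => hw1 (Subtype.ext h)
        have hwo' : Odd (orderOf (w : G)) := by rw [Subgroup.orderOf_coe]; exact hwo
        have hw' : z * w * z⁻¹ = (w : G)⁻¹ := congrArg Subtype.val hw
        have h1 : (w : G) ∈ normalizer ((W.map H.subtype : Subgroup G) : Set G) := by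
          apply mem_normalizer_of_forall
          rintro _ ⟨x, hx, rfl⟩
          exact ⟨w * x * w⁻¹, (mem_normalizer_iff.1 hwW x).1 hx, rfl⟩
        have h2 := card_le hzc hwo' hw' (htr w hwo' hw') (hW.map H.subtype) h1
        have h3 := h2.trans (hymax w ⟨hw1', hwo', hw'⟩)
        rw [← hVdef, Subgroup.card_map_of_injective H.subtype_injective] at h3
        have h4 : Nat.card (V.subgroupOf H) = Nat.card V :=
          Nat.card_congr (subgroupOfEquivOfLe hVH).toEquiv
        rw [← h4] at h3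
        exact (Subgroup.eq_of_le_of_card_ge hVW h3).ge)
      (e := ⟨e, hcH e hec⟩) (Subtype.ext he2) (Subtype.ext (hzc e heT))
    rcases hmain with h | h
    · left
      have h1 : e ∈ V := h
      rw [← (hVy e h1).eq]; group
    · right
      have h1 : e * z ∈ V := h
      have h2 := hVy _ h1
      have h3 : e * z * y * (e * z)⁻¹ = y := by rw [← h2.eq]; group
      have h4 : e * y⁻¹ * e⁻¹ = y := by
        calc e * y⁻¹ * e⁻¹ = e * (z * y * z⁻¹) * e⁻¹ := by rw [hy]
          _ = e * z * y * (e * z)⁻¹ := by group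
          _ = y := h3
      calc e * y * e⁻¹ = (e * y⁻¹ * e⁻¹)⁻¹ := by group
        _ = y⁻¹ := by rw [h4]
  -- `z` normalises every conjugate of `⟨y⟩`
  have hall : ∀ g : G, z * (g * y * g⁻¹) * z⁻¹ = g * y * g⁻¹ ∨ z * (g * y * g⁻¹) * z⁻¹ = (g * y * g⁻¹)⁻¹ := by
    intro g
    obtain ⟨c, hcy, hc⟩ := htr y hyo hy (g⁻¹ • T)
    have hn : (g * c) • T = T := by rw [mul_smul, hc, smul_inv_smul]
    have hmem : ∀ x : G, x ∈ T ↔ (g * c) * x * (g * c)⁻¹ ∈ T := by
      have h1 := Sylow.smul_eq_iff_mem_normalizer.1 hn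
      intro x
      exact (mem_normalizer_iff.1 h1) x
    have heT : (g * c)⁻¹ * z * (g * c) ∈ T := by
      rw [hmem]
      have : g * c * ((g * c)⁻¹ * z * (g * c)) * (g * c)⁻¹ = z := by group
      rw [this]; exact hzT
    have hec : ∀ t ∈ T, Commute t ((g * c)⁻¹ * z * (g * c)) := by
      intro t ht
      have h1 := hzc _ ((hmem t).1 ht)
      have h2 : t = (g * c)⁻¹ * ((g * c) * t * (g * c)⁻¹) * (g * c)⁻¹⁻¹ := by group
      have h3 : (g * c)⁻¹ * z * (g * c) = (g * c)⁻¹ * z * (g * c)⁻¹⁻¹ := by rw [inv_inv]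
      rw [h3, h2]
      exact (Commute.conj_iff _).2 h1
    have he2 : (g * c)⁻¹ * z * (g * c) * ((g * c)⁻¹ * z * (g * c)) = 1 := by
      calc (g * c)⁻¹ * z * (g * c) * ((g * c)⁻¹ * z * (g * c)) = (g * c)⁻¹ * (z * z) * (g * c) := by group
        _ = 1 := by rw [hz2]; group
    have hgy : g * y * g⁻¹ = (g * c) * y * (g * c)⁻¹ := by
      have : c * y * c⁻¹ = y := by rw [hcy.eq]; group
      calc g * y * g⁻¹ = g * (c * y * c⁻¹) * g⁻¹ := by rw [this]
        _ = _ := by group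
    have hE := hcent _ heT hec he2
    have h5 : z * (g * y * g⁻¹) * z⁻¹ =
        (g * c) * (((g * c)⁻¹ * z * (g * c)) * y * ((g * c)⁻¹ * z * (g * c))⁻¹) * (g * c)⁻¹ := by
      rw [hgy]; group
    rcases hE with h | h
    · left; rw [h5, h, hgy]
    · right; rw [h5, h, hgy]; group
  have hall2 : ∀ g h : G, (h * z * h⁻¹) * (g * y * g⁻¹) * (h * z * h⁻¹)⁻¹ = g * y * g⁻¹ ∨
      (h * z * h⁻¹) * (g * y * g⁻¹) * (h * z * h⁻¹)⁻¹ = (g * y * g⁻¹)⁻¹ := by
    intro g h
    have h1 : (h * z * h⁻¹) * (g * y * g⁻¹) * (h * z * h⁻¹)⁻¹ =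
        h * (z * ((h⁻¹ * g) * y * (h⁻¹ * g)⁻¹) * z⁻¹) * h⁻¹ := by group
    rcases hall (h⁻¹ * g) with h2 | h2
    · left; rw [h1, h2]; group
    · right; rw [h1, h2]; group
  have hyy : y * y = (y * z * y⁻¹) * z := by
    have hz' : z⁻¹ = z := eq_inv_of_sq hz2
    calc y * y = y * (y⁻¹)⁻¹ := by rw [inv_inv]
      _ = y * (z * y * z⁻¹)⁻¹ := by rw [hy]
      _ = y * z * y⁻¹ * z⁻¹ := by group
      _ = _ := by rw [hz']
  have hcomm : ∀ g : G, Commute y (g * y * g⁻¹) := by
    intro g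
    have h1 : (y * y) * (g * y * g⁻¹) * (y * y)⁻¹ = g * y * g⁻¹ ∨
        (y * y) * (g * y * g⁻¹) * (y * y)⁻¹ = (g * y * g⁻¹)⁻¹ := by
      have h2 : (y * y) * (g * y * g⁻¹) * (y * y)⁻¹ =
          (y * z * y⁻¹) * (z * (g * y * g⁻¹) * z⁻¹) * (y * z * y⁻¹)⁻¹ := by rw [hyy]; group
      rcases hall g with h3 | h3
      · rw [h2, h3]; exact hall2 g y
      · rw [h2, h3]
        have h4 : (y * z * y⁻¹) * (g * y * g⁻¹)⁻¹ * (y * z * y⁻¹)⁻¹ =
            ((y * z * y⁻¹) * (g * y * g⁻¹) * (y * z * y⁻¹)⁻¹)⁻¹ := by group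
        rw [h4]
        rcases hall2 g y with h5 | h5
        · right; rw [h5]
        · left; rw [h5, inv_inv]
    apply commute_of_pow_two hyo (k := 2)
    have h2 : y ^ 2 ^ 2 = (y * y) * (y * y) := by
      rw [show (2 : ℕ) ^ 2 = 2 + 2 by norm_num, pow_add, pow_two]
    rw [h2]
    have h3 : (y * y) * (y * y) * (g * y * g⁻¹) * ((y * y) * (y * y))⁻¹ = g * y * g⁻¹ := by
      have h4 : (y * y) * (y * y) * (g * y * g⁻¹) * ((y * y) * (y * y))⁻¹ =
          (y * y) * ((y * y) * (g * y * g⁻¹) * (y * y)⁻¹) * (y * y)⁻¹ := by group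
      rw [h4]
      rcases h1 with h5 | h5
      · rw [h5, h5]
      · rw [h5]
        have h6 : y * y * (g * y * g⁻¹)⁻¹ * (y * y)⁻¹ = (y * y * (g * y * g⁻¹) * (y * y)⁻¹)⁻¹ :=
          conj_inv.symm
        rw [h6, h5, inv_inv]
    exact mul_inv_eq_iff_eq_mul.1 h3
  refine ⟨normalClosure {y}, normalClosure_normal, ?_, odd_card_normalClosure hyo hcomm⟩
  intro h
  have h1 : y ∈ normalClosure {y} := subset_normalClosure (Set.mem_singleton y)
  rw [h] at h1
  exact hy1 (mem_bot.1 h1)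

end Cfsg.Agent.H537.RealTrans
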